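import Cfsg.Agent.Lib.Mitchell.Free.GLTwo

/-!
# Recognising `GL(2,3)`

* `gl23_of_rel` : a group of order 48 with the standard generators and relations
* `gl23_of_perm_four` : a double cover of `S₄` in `GL₂(F)` containing a non-scalar involution
-/

set_option autoImplicit false
set_option linter.unusedSectionVars false

namespace Cfsg.Agent.Mitchell

open Matrix

/-- The non-zero vectors of `F₃²`. -/
abbrev V8 := {v : Fin 2 → ZMod 3 // v ≠ 0}

/-- `GL(2,3)` on the non-zero vectors. -/
def act8 : GL (Fin 2) (ZMod 3) →* Equiv.Perm V8 where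
  toFun A :=
    { toFun := fun v => ⟨(A : Matrix (Fin 2) (Fin 2) (ZMod 3)) *ᵥ v.1, fun h => v.2 (by
        have := congrArg (((A⁻¹ : GL (Fin 2) (ZMod 3)) : Matrix (Fin 2) (Fin 2) (ZMod 3)) *ᵥ ·) h
        simp only [Matrix.mulVec_mulVec, Matrix.mulVec_zero, ← Units.val_mul, inv_mul_cancel, Units.val_one,
          Matrix.one_mulVec] at this
        exact this)⟩
      invFun := fun v => ⟨((A⁻¹ : GL (Fin 2) (ZMod 3)) : Matrix (Fin 2) (Fin 2) (ZMod 3)) *ᵥ v.1, fun h => v.2 (by
        have := congrArg ((A : Matrix (Fin 2) (Fin 2) (ZMod 3)) *ᵥ ·) h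
        simp only [Matrix.mulVec_mulVec, Matrix.mulVec_zero, ← Units.val_mul, mul_inv_cancel, Units.val_one,
          Matrix.one_mulVec] at this
        exact this)⟩
      left_inv := fun v => Subtype.ext (by
        simp only [Matrix.mulVec_mulVec, ← Units.val_mul, inv_mul_cancel, Units.val_one, Matrix.one_mulVec])
      right_inv := fun v => Subtype.ext (by
        simp only [Matrix.mulVec_mulVec, ← Units.val_mul, mul_inv_cancel, Units.val_one, Matrix.one_mulVec]) }
  map_one' := Equiv.ext fun v => Subtype.ext (by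
    show ((1 : GL (Fin 2) (ZMod 3)) : Matrix (Fin 2) (Fin 2) (ZMod 3)) *ᵥ v.1 = v.1
    rw [Units.val_one, Matrix.one_mulVec])
  map_mul' A B := Equiv.ext fun v => Subtype.ext (by
    show ((A * B : GL (Fin 2) (ZMod 3)) : Matrix (Fin 2) (Fin 2) (ZMod 3)) *ᵥ v.1 =
      (A : Matrix (Fin 2) (Fin 2) (ZMod 3)) *ᵥ ((B : Matrix (Fin 2) (Fin 2) (ZMod 3)) *ᵥ v.1)
    rw [Units.val_mul, Matrix.mulVec_mulVec])

lemma act8_apply (A : GL (Fin 2) (ZMod 3)) (v : V8) :
    (act8 A v).1 = (A : Matrix (Fin 2) (Fin 2) (ZMod 3)) *ᵥ v.1 := rfl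

lemma act8_injective : Function.Injective act8 := fun A B h => Units.ext (Matrix.ext_of_mulVec_single fun i => by
  rw [← act8_apply A ⟨Pi.single i 1, fun e => one_ne_zero (by simpa using congrFun e i : (1 : ZMod 3) = 0)⟩,
    h, act8_apply])

/-- The generator of order four. -/
def gi : GL (Fin 2) (ZMod 3) := ⟨!![0, 2; 1, 0], !![0, 1; 2, 0], by decide, by decide⟩
/-- The generator of order three. -/
def gz : GL (Fin 2) (ZMod 3) := ⟨!![1, 1; 0, 1], !![1, 2; 0, 1], by decide, by decide⟩
/-- The reflection. -/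
def gu : GL (Fin 2) (ZMod 3) := ⟨!![1, 0; 0, 2], !![1, 0; 0, 2], by decide, by decide⟩

lemma gens_top : Subgroup.closure ({gi, gz, gu} : Set (GL (Fin 2) (ZMod 3))) = ⊤ := by
  have key : ∀ A : Matrix (Fin 2) (Fin 2) (ZMod 3), A 0 0 * A 1 1 - A 0 1 * A 1 0 ≠ 0 →
      ∃ a : Fin 4, ∃ b : Fin 4, ∃ c : Fin 3, ∃ d : Fin 2,
        A = !![0, 2; 1, 0] ^ a.val * (!![1, 1; 0, 1] * !![0, 2; 1, 0] * !![1, 2; 0, 1]) ^ b.val *
          !![1, 1; 0, 1] ^ c.val * !![1, 0; 0, 2] ^ d.val := by decide +kernel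
  rw [eq_top_iff]
  intro g _
  obtain ⟨a, b, c, d, h⟩ := key g.1 (by
    rw [← Matrix.det_fin_two]; exact ((Matrix.isUnit_iff_isUnit_det _).1 g.isUnit).ne_zero)
  have : g = gi ^ a.val * (gz * gi * gz⁻¹) ^ b.val * gz ^ c.val * gu ^ d.val := Units.ext (by
    simp only [Units.val_mul, Units.val_pow_eq_pow_val]; exact h)
  rw [this]
  have hi : gi ∈ Subgroup.closure ({gi, gz, gu} : Set (GL (Fin 2) (ZMod 3))) := Subgroup.subset_closure (by simp)
  have hz : gz ∈ Subgroup.closure ({gi, gz, gu} : Set (GL (Fin 2) (ZMod 3))) := Subgroup.subset_closure (by simp)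
  have hu : gu ∈ Subgroup.closure ({gi, gz, gu} : Set (GL (Fin 2) (ZMod 3))) := Subgroup.subset_closure (by simp)
  exact mul_mem (mul_mem (mul_mem (pow_mem hi _) (pow_mem (mul_mem (mul_mem hz hi) (inv_mem hz)) _))
    (pow_mem hz _)) (pow_mem hu _)

/-- The vectors in the order of the coset representatives. -/
def vec8 : Fin 8 → V8 :=
  ![⟨![1, 0], by decide⟩, ⟨![0, 1], by decide⟩, ⟨![1, 1], by decide⟩, ⟨![2, 1], by decide⟩,
    ⟨![2, 0], by decide⟩, ⟨![0, 2], by decide⟩, ⟨![2, 2], by decide⟩, ⟨![1, 2], by decide⟩]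

lemma vec8_bijective : Function.Bijective vec8 := by decide +kernel

lemma card_gl23 : Nat.card (GL (Fin 2) (ZMod 3)) = 48 := by
  haveI : Fact (Nat.Prime 3) := ⟨Nat.prime_three⟩
  rw [Matrix.card_GL_field, Fin.prod_univ_two, ZMod.card]
  rfl

/-- Recognition by generators and relations. -/
theorem gl23_of_rel {G : Type*} [Group G] [Finite G] (hcard : Nat.card G = 48) {i z u t : G}
    (hi : i * i = t) (ht : t * t = 1) (htc : ∀ g, t * g = g * t) (hz : z * z * z = 1) (hz1 : z ≠ 1)
    (hu : u * u = 1) (hu1 : u ≠ 1) (huz : u * z = z * z * u) (hui : u * i = t * i * u)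
    (hij : i * (z * i * z⁻¹) = z * (z * i * z⁻¹) * z⁻¹)
    (hgen : Subgroup.closure ({i, z, u} : Set G) = ⊤) :
    Nonempty (G ≃* GL (Fin 2) (ZMod 3)) := by
  classical
  set j := z * i * z⁻¹ with hj
  set k := z * j * z⁻¹ with hk
  let R : Subgroup G := Subgroup.closure {z, u}
  have hzR : z ∈ R := Subgroup.subset_closure (by simp)
  have huR : u ∈ R := Subgroup.subset_closure (by simp)
  have hzinv : z⁻¹ = z * z := inv_eq_of_mul_eq_one_right (by rw [← mul_assoc, hz])
  have htinv : t⁻¹ = t := inv_eq_of_mul_eq_one_right ht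
  have hR : Nat.card R = 6 := by
    let S : Finset G := {1, z, z * z, u, z * u, z * z * u}
    have n1 : ∀ x, u * (z * x) = z * (z * (u * x)) := fun x => by rw [← mul_assoc, huz]; simp only [mul_assoc]
    have n1' : u * z = z * (z * u) := by rw [huz, mul_assoc]
    have n2 : ∀ x, u * (u * x) = x := fun x => by rw [← mul_assoc, hu, one_mul]
    have n3 : ∀ x, z * (z * (z * x)) = x := fun x => by rw [← mul_assoc, ← mul_assoc, hz, one_mul]
    have n3' : z * (z * z) = 1 := by rw [← mul_assoc, hz]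
    have hS : ∀ x ∈ R, x ∈ S := by
      intro x hx
      induction hx using Subgroup.closure_induction_left with
      | one => simp [S]
      | mul_left a ha y _ hy =>
        simp only [S, Finset.mem_insert, Finset.mem_singleton] at hy ⊢
        rcases ha with rfl | rfl <;> rcases hy with rfl | rfl | rfl | rfl | rfl | rfl <;>
          simp [mul_assoc, n1, n1', n2, n3, n3', hu]
      | inv_mul_cancel a ha y _ hy =>
        simp only [S, Finset.mem_insert, Finset.mem_singleton] at hy ⊢
        have hu' : u⁻¹ = u := inv_eq_of_mul_eq_one_right hu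
        rcases ha with rfl | rfl <;> rcases hy with rfl | rfl | rfl | rfl | rfl | rfl <;>
          simp [hzinv, hu', mul_assoc, n1, n1', n2, n3, n3', hu]
    have hle : Nat.card R ≤ 6 := by
      refine le_trans (Nat.card_le_card_of_injective (fun x : R => (⟨x.1, hS x.1 x.2⟩ : S))
        (fun a b h => Subtype.ext (congrArg Subtype.val h :))) ?_
      rw [Nat.card_eq_fintype_card, Fintype.card_coe]
      exact Finset.card_le_six
    haveI : Fact (Nat.Prime (2 + 1)) := ⟨Nat.prime_three⟩
    have h3 : 3 ∣ Nat.card R := by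
      have := orderOf_dvd_natCard (⟨z, hzR⟩ : R)
      rwa [← Subgroup.orderOf_coe, orderOf_eq_prime (by rw [pow_succ, pow_two]; exact hz) hz1] at this
    have h2 : 2 ∣ Nat.card R := by
      have := orderOf_dvd_natCard (⟨u, huR⟩ : R)
      rwa [← Subgroup.orderOf_coe, orderOf_eq_prime (by rw [pow_two]; exact hu) hu1] at this
    have h6 : 6 ∣ Nat.card R := Nat.Coprime.mul_dvd_of_dvd_of_dvd (by norm_num) h3 h2
    exact le_antisymm hle (Nat.le_of_dvd Nat.card_pos h6)
  have hQ : Nat.card (G ⧸ R) = 8 := by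
    have := Subgroup.card_eq_card_quotient_mul_card_subgroup R
    rw [hR, hcard] at this
    omega
  let q : Fin 8 → G := ![1, i, j, k, t, t * i, t * j, t * k]
  have eq_of : ∀ {a b : G}, ∀ r ∈ R, a = b * r → (QuotientGroup.mk a : G ⧸ R) = QuotientGroup.mk b :=
    fun {a b} r hr h => by rw [QuotientGroup.eq, h]; simpa using inv_mem hr
  have hki : z * k * z⁻¹ = i := by
    rw [hk, hj]
    calc _ = z * z * z * i * (z * z * z)⁻¹ := by group
      _ = i := by rw [hz]; group
  have htcj : ∀ a, z * (t * a) * z⁻¹ = t * (z * a * z⁻¹) := fun a => by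
    rw [← mul_assoc, ← htc z]; group
  have huz' : u * z⁻¹ = z * u := by
    rw [hzinv, ← mul_assoc, huz, mul_assoc (z * z) u z, huz,
      show z * z * (z * z * u) = z * z * z * (z * u) by group, hz, one_mul]
  have hu' : u * j * u = t * k := by
    calc u * j * u = (u * z) * i * (z⁻¹ * u) := by rw [hj]; group
      _ = (z * z * u) * i * (u * z) := by rw [show z⁻¹ * u = u * z by rw [huz, hzinv], ← huz]
      _ = z * z * (u * i) * u * z := by group
      _ = z * z * (t * i) * (u * u) * z := by rw [hui]; group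
      _ = z * z * (t * i) * z := by rw [hu, mul_one]
      _ = t * (z * z * i * (z * z)⁻¹) * (z * z * z) := by rw [← mul_assoc (z * z), ← htc]; group
      _ = t * k := by rw [hz, mul_one, hk, hj]; group
  have hu'' : u * k * u = t * j := by
    have h := congrArg (fun x => t * (u * x * u)) hu'
    rw [show u * (u * j * u) * u = (u * u) * j * (u * u) by group, hu, one_mul, mul_one, ← mul_assoc u t k,
      ← htc u, show t * (t * u * k * u) = (t * t) * (u * k * u) by group, ht, one_mul] at h
    exact h.symm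
  have hjj : j * j = t := by
    rw [hj, show z * i * z⁻¹ * (z * i * z⁻¹) = z * (i * i) * z⁻¹ by group, hi, ← htc]; group
  have hik : i * k = t * j := by rw [← hij, ← mul_assoc, hi]
  have hqi' : ∀ m, i * q m = q (![1, 4, 3, 6, 5, 0, 7, 2] m) := by
    intro m
    have e5 : i * (t * i) = 1 := by rw [← mul_assoc, ← htc i, mul_assoc, hi, ht]
    have e6 : i * (t * j) = t * k := by rw [← mul_assoc, ← htc i, mul_assoc, hij]
    have e7 : i * (t * k) = j := by rw [← mul_assoc, ← htc i, mul_assoc, hik, ← mul_assoc, ht, one_mul]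
    have e4 : i * t = t * i := (htc i).symm
    fin_cases m
    exacts [mul_one i, hi, hij, hik, e4, e5, e6, e7]
  have hqi : ∀ m, (QuotientGroup.mk (i * q m) : G ⧸ R) = QuotientGroup.mk (q (![1, 4, 3, 6, 5, 0, 7, 2] m)) :=
    fun m => congrArg _ (hqi' m)
  have hqz : ∀ m, (QuotientGroup.mk (z * q m) : G ⧸ R) = QuotientGroup.mk (q (![0, 2, 3, 1, 4, 6, 7, 5] m)) := by
    intro m
    refine eq_of z hzR ?_
    fin_cases m <;> simp [q]
    · rw [hj]; group
    · rw [hk]; group
    · rw [← hki]; group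
    · exact (htc z).symm
    · rw [hj, mul_assoc]; rw [show z * i * z⁻¹ * z = z * i by group, ← mul_assoc, ← htc z, mul_assoc]
    · rw [hk, mul_assoc]; rw [show z * j * z⁻¹ * z = z * j by group, ← mul_assoc, ← htc z, mul_assoc]
    · rw [mul_assoc, show i * z = z * k by rw [← hki]; group, ← mul_assoc, ← htc z, mul_assoc]
  have hqu : ∀ m, (QuotientGroup.mk (u * q m) : G ⧸ R) = QuotientGroup.mk (q (![0, 5, 7, 6, 4, 1, 3, 2] m)) := by
    intro m
    refine eq_of u huR ?_
    have e1 : u * j = t * k * u := by rw [← hu', mul_assoc, hu, mul_one]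
    have e2 : u * k = t * j * u := by rw [← hu'', mul_assoc, hu, mul_one]
    fin_cases m <;> simp [q]
    · exact hui
    · exact e1
    · exact e2
    · exact (htc u).symm
    · rw [← mul_assoc, ← htc u, mul_assoc, hui, show t * (t * i * u) = t * t * (i * u) by group, ht, one_mul]
    · rw [← mul_assoc, ← htc u, mul_assoc, e1, show t * (t * k * u) = t * t * (k * u) by group, ht, one_mul]
    · rw [← mul_assoc, ← htc u, mul_assoc, e2, show t * (t * j * u) = t * t * (j * u) by group, ht, one_mul]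
  let Φ : Fin 8 → G ⧸ R := fun m => QuotientGroup.mk (q m)
  have hclosed : ∀ g : G, ∀ m, ∃ m', g • Φ m = Φ m' := by
    intro g
    have hg : g ∈ Subgroup.closure ({i, z, u} : Set G) := hgen ▸ Subgroup.mem_top g
    induction hg using Subgroup.closure_induction with
    | mem a ha =>
      intro m
      rcases ha with rfl | rfl | rfl
      exacts [⟨_, hqi m⟩, ⟨_, hqz m⟩, ⟨_, hqu m⟩]
    | one => exact fun m => ⟨m, one_smul _ _⟩
    | mul a b _ _ ha hb =>
      intro m
      obtain ⟨m1, h1⟩ := hb m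
      obtain ⟨m2, h2⟩ := ha m1
      exact ⟨m2, by rw [mul_smul, h1, h2]⟩
    | inv a _ ha =>
      intro m
      choose f hf using ha
      have hs : Set.range Φ ⊆ (a • · : G ⧸ R → G ⧸ R) '' Set.range Φ := by
        have hsub : (a • · : G ⧸ R → G ⧸ R) '' Set.range Φ ⊆ Set.range Φ := by
          rintro _ ⟨_, ⟨m, rfl⟩, rfl⟩; exact ⟨f m, (hf m).symm⟩
        exact (Set.eq_of_subset_of_ncard_le hsub
          (by rw [Set.ncard_image_of_injective _ (MulAction.injective a)]) (Set.toFinite _)).ge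
      obtain ⟨_, ⟨m', rfl⟩, h⟩ := hs ⟨m, rfl⟩
      exact ⟨m', by rw [inv_smul_eq_iff]; exact h.symm⟩
  have hΦ : Function.Bijective Φ := by
    have hsurj : Function.Surjective Φ := fun x => by
      obtain ⟨g, rfl⟩ := QuotientGroup.mk_surjective x
      obtain ⟨m, hm⟩ := hclosed g 0
      exact ⟨m, by rw [← hm]; show g • (QuotientGroup.mk (q 0) : G ⧸ R) = _; simp [q, MulAction.Quotient.smul_mk]⟩
    exact (Nat.bijective_iff_surjective_and_card Φ).2 ⟨hsurj, by rw [hQ, Nat.card_fin]⟩
  let e : G ⧸ R ≃ V8 := (Equiv.ofBijective Φ hΦ).symm.trans (Equiv.ofBijective vec8 vec8_bijective)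
  let π : G →* Equiv.Perm V8 := (e.permCongrHom.toMonoidHom).comp (MulAction.toPermHom G (G ⧸ R))
  have hπ : ∀ (g : G) (f : Fin 8 → Fin 8) (A : GL (Fin 2) (ZMod 3)),
      (∀ m, (QuotientGroup.mk (g * q m) : G ⧸ R) = Φ (f m)) → (∀ m, act8 A (vec8 m) = vec8 (f m)) →
      π g = act8 A := by
    intro g f A h1 h2
    refine Equiv.ext fun v => ?_
    obtain ⟨m, rfl⟩ := vec8_bijective.2 v
    show e (g • e.symm (vec8 m)) = _
    have he : e.symm (vec8 m) = Φ m := by
      rw [Equiv.symm_apply_eq]; simp [e]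
    rw [he, show g • Φ m = QuotientGroup.mk (g * q m) from rfl, h1, h2]
    simp [e]
  have hPi : π i = act8 gi := hπ i _ gi hqi (by decide +kernel)
  have hPz : π z = act8 gz := hπ z _ gz hqz (by decide +kernel)
  have hPu : π u = act8 gu := hπ u _ gu hqu (by decide +kernel)
  have hrange : π.range = act8.range := by
    rw [MonoidHom.range_eq_map, MonoidHom.range_eq_map, ← hgen, ← gens_top, MonoidHom.map_closure,
      MonoidHom.map_closure]
    simp [Set.image_insert_eq, hPi, hPz, hPu]
  have hinj : Function.Injective π := by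
    rw [← MonoidHom.ker_eq_bot_iff, ← Subgroup.card_eq_one]
    have h1 := Subgroup.card_eq_card_quotient_mul_card_subgroup π.ker
    rw [Nat.card_congr (QuotientGroup.quotientKerEquivRange π).toEquiv, hrange,
      Nat.card_congr (MonoidHom.ofInjective act8_injective).toEquiv.symm, card_gl23, hcard] at h1
    omega
  exact ⟨(MonoidHom.ofInjective hinj).trans
    ((MulEquiv.subgroupCongr hrange).trans (MonoidHom.ofInjective act8_injective).symm)⟩

lemma s4_comm : ∀ a : Equiv.Perm (Fin 4), Equiv.Perm.sign a = 1 → ∃ b c, a = b * c * b⁻¹ * c⁻¹ := by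
  decide +kernel

set_option synthInstance.maxHeartbeats 200000 in
set_option synthInstance.maxSize 4000 in
lemma s4_gens : ∀ a : Equiv.Perm (Fin 4), a * a = 1 → a ≠ 1 → Equiv.Perm.sign a ≠ 1 →
      ∃ d s : Equiv.Perm (Fin 4), d * d = 1 ∧ d ≠ 1 ∧ Equiv.Perm.sign d = 1 ∧ a * d = d * a ∧
        s * s * s = 1 ∧ s ≠ 1 ∧ a * s = s * s * a ∧ d * (s * d * s⁻¹) = s * (s * d * s⁻¹) * s⁻¹ ∧
        d ≠ a := by decide +kernel

set_option synthInstance.maxHeartbeats 200000 in
set_option synthInstance.maxSize 4000 in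
lemma s4_words : ∀ a : Equiv.Perm (Fin 4), a * a = 1 → a ≠ 1 → Equiv.Perm.sign a ≠ 1 →
    ∀ d : Equiv.Perm (Fin 4), d * d = 1 → d ≠ 1 → Equiv.Perm.sign d = 1 →
    ∀ s : Equiv.Perm (Fin 4), s * s * s = 1 → s ≠ 1 →
        ∀ g, ∃ x : Fin 2, ∃ y : Fin 2, ∃ w : Fin 3, ∃ v : Fin 2,
          g = d ^ x.val * (s * d * s⁻¹) ^ y.val * s ^ w.val * a ^ v.val := by decide +kernel

variable {F : Type*} [Field F]

/-- A double cover of `S₄` in `GL₂` with a non-scalar involution. -/
theorem gl23_of_perm_four (h2 : (2 : F) ≠ 0) {M : Subgroup (GL (Fin 2) F)} [Finite M]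
    (hs : ∀ x ∈ M, Sc x → (x : Matrix (Fin 2) (Fin 2) F) = 1 ∨ (x : Matrix (Fin 2) (Fin 2) F) = -1)
    (hneg : -1 ∈ M) (e : img M ≃* Equiv.Perm (Fin 4)) {u₀ : GL (Fin 2) F} (hu₀ : u₀ ∈ M)
    (hu₀' : ¬ Sc u₀) (hu₀2 : u₀ * u₀ = 1) :
    Nonempty (M ≃* GL (Fin 2) (ZMod 3)) := by
  classical
  let θ : M →* Equiv.Perm (Fin 4) :=
    e.toMonoidHom.comp ((ProjGenLinGroup.mk.comp M.subtype).codRestrict (img M) fun x =>
      Subgroup.mem_map_of_mem _ x.2)
  have hθs : Function.Surjective θ := fun a => by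
    obtain ⟨g, hg, h⟩ := (e.symm a).2
    exact ⟨⟨g, hg⟩, e.symm.injective (by simp [θ]; exact Subtype.ext h)⟩
  have hθ1 : ∀ x : M, θ x = 1 ↔ x.1 = 1 ∨ x.1 = -1 := fun x => by
    show e _ = 1 ↔ _
    rw [e.map_eq_one_iff, ← OneMemClass.coe_eq_one]
    show ProjGenLinGroup.mk x.1 = 1 ↔ _
    rw [← sc_iff_mk]
    constructor
    · intro h
      exact (hs x.1 x.2 h).imp (fun h => Units.ext h) (fun h => Units.ext (h.trans (by simp)))
    · rintro (h | h) <;> rw [h]
      exacts [sc_one, ⟨-1, by simp⟩]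
  set t : M := ⟨-1, hneg⟩ with ht
  have htne : t ≠ 1 := fun h => h2 (by
    have := congrArg (fun g : M => ((g : GL (Fin 2) F) : Matrix (Fin 2) (Fin 2) F) 0 0) h
    simp [t] at this
    linear_combination -this)
  have hker : ∀ x y : M, θ x = θ y → x = y ∨ x = t * y := fun x y h => by
    rcases (hθ1 (x * y⁻¹)).1 (by rw [map_mul, map_inv, h, mul_inv_cancel]) with h' | h'
    · exact Or.inl (mul_inv_eq_one.1 (Subtype.ext h'))
    · exact Or.inr (mul_inv_eq_iff_eq_mul.1 (Subtype.ext h'))
  have htt : t * t = 1 := Subtype.ext (by simp [t])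
  have htc : ∀ g : M, t * g = g * t := fun g => Subtype.ext (by simp [t])
  have hcard : Nat.card M = 48 := by
    have h1 := Subgroup.card_eq_card_quotient_mul_card_subgroup θ.ker
    have hk : Nat.card θ.ker = 2 := by
      rw [Nat.card_eq_two_iff]
      refine ⟨1, ⟨t, (hθ1 t).2 (Or.inr rfl)⟩, fun h => htne (congrArg Subtype.val h).symm, ?_⟩
      ext ⟨x, hx⟩
      rcases (hθ1 x).1 hx with h | h
      · simp [show x = 1 from Subtype.ext h]
      · simp [show x = t from Subtype.ext h]
    rw [Nat.card_congr (QuotientGroup.quotientKerEquivOfSurjective θ hθs).toEquiv, hk,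
      show Nat.card (Equiv.Perm (Fin 4)) = 24 from (Nat.card_perm).trans (by rw [Nat.card_fin]; rfl)] at h1
    omega
  -- the involution lies over a transposition
  set u : M := ⟨u₀, hu₀⟩ with hu
  have huu : u * u = 1 := Subtype.ext hu₀2
  have hu1 : θ u ≠ 1 := fun h => hu₀' (by
    rcases (hθ1 u).1 h with h' | h' <;> rw [show u₀ = u.1 from rfl, h']
    exacts [sc_one, ⟨-1, by simp⟩])
  have hdet : ∀ {x : M} {b c : Equiv.Perm (Fin 4)}, θ x = b * c * b⁻¹ * c⁻¹ →
      ((x : GL (Fin 2) F) : Matrix (Fin 2) (Fin 2) F).det = 1 := by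
    intro x b c h
    obtain ⟨g, rfl⟩ := hθs b
    obtain ⟨k, rfl⟩ := hθs c
    rw [← map_inv, ← map_inv, ← map_mul, ← map_mul, ← map_mul] at h
    let D : M →* Fˣ := GeneralLinearGroup.det.comp M.subtype
    have hD : D x = 1 := by
      rcases hker _ _ h with h' | h'
      · rw [h']; simp [mul_comm, mul_left_comm]
      · rw [h']
        have : D t = 1 := Units.ext (by simp [D, t, Matrix.det_fin_two])
        rw [map_mul, this]; simp [mul_comm, mul_left_comm]
    exact congrArg Units.val hD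
  have hsq : ∀ {x : M}, ((x : GL (Fin 2) F) : Matrix (Fin 2) (Fin 2) F).det = 1 →
      θ (x * x) = 1 → θ x ≠ 1 → x * x = t := by
    intro x hd h2' h1'
    rcases (hθ1 _).1 h2' with h | h
    · exfalso
      have hm := congrArg Units.val h
      rw [Subgroup.coe_mul, Units.val_mul, Units.val_one, sq_eq_trace, hd, one_smul, sub_eq_iff_eq_add] at hm
      by_cases htr : ((x : GL (Fin 2) F) : Matrix (Fin 2) (Fin 2) F).trace = 0
      · rw [htr, zero_smul] at hm
        have := congrFun (congrFun hm 0) 0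
        simp at this
        exact h2 (by linear_combination -this)
      · exact h1' ((hθ1 x).2 (by
          have hsc : Sc (x : GL (Fin 2) F) :=
            ⟨2 / ((x : GL (Fin 2) F) : Matrix (Fin 2) (Fin 2) F).trace, smul_right_injective _ htr (by
              show _ • _ = _ • _
              rw [hm, smul_smul, mul_div_cancel₀ _ htr, two_smul])⟩
          exact (hs _ x.2 hsc).imp (fun h => Units.ext h) (fun h => Units.ext (h.trans (by simp)))))
    · exact Subtype.ext h
  -- choose images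
  have hnc : ∀ b c, θ u ≠ b * c * b⁻¹ * c⁻¹ := fun b c h => hu1 (by
    rw [← map_one θ]
    have := hsq (x := u) (hdet h) (by rw [huu, map_one]) hu1
    exact absurd (this.symm.trans huu) htne)
  have hsu : Equiv.Perm.sign (θ u) ≠ 1 := fun h => by
    obtain ⟨b, c, hbc⟩ := s4_comm _ h
    exact hnc b c hbc
  obtain ⟨d, s, hd2, hd1, hdsgn, had, hs3, hs1, has, hds, hda⟩ :=
    s4_gens (θ u) (by rw [← map_mul, huu, map_one]) hu1 hsu
  obtain ⟨b, c, hdc⟩ := s4_comm d hdsgn
  obtain ⟨i, hi⟩ := hθs d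
  obtain ⟨z₀, hz₀⟩ := hθs s
  have hii : i * i = t := hsq (hdet (by rw [hi]; exact hdc)) (by rw [map_mul, hi, hd2]) (by rw [hi]; exact hd1)
  obtain ⟨z, hz, hz3⟩ : ∃ z : M, θ z = s ∧ z * z * z = 1 := by
    rcases hker (z₀ * z₀ * z₀) 1 (by rw [map_mul, map_mul, hz₀, hs3, map_one]) with h | h
    · exact ⟨z₀, hz₀, h⟩
    · refine ⟨t * z₀, by rw [map_mul, (hθ1 t).2 (Or.inr rfl), one_mul, hz₀], ?_⟩
      rw [mul_one] at h
      calc t * z₀ * (t * z₀) * (t * z₀) = t * (z₀ * t) * z₀ * t * z₀ := by group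
        _ = t * (t * z₀) * z₀ * t * z₀ := by rw [htc z₀]
        _ = t * t * (z₀ * z₀ * t) * z₀ := by group
        _ = z₀ * z₀ * (t * z₀) := by rw [htt, one_mul]; group
        _ = z₀ * z₀ * (z₀ * t) := by rw [htc z₀]
        _ = 1 := by rw [← mul_assoc, h, htt]
  have hz1 : z ≠ 1 := fun h => hs1 (by rw [← hz, h, map_one])
  have hui : u * i = t * i * u := by
    have hanti : (u : GL (Fin 2) F) * (i : GL (Fin 2) F) = -((i : GL (Fin 2) F) * u) := by
      refine anti_of_comm h2 ⟨1, by rw [hu₀2]; simp⟩ hu₀'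
        ⟨-1, by rw [← Subgroup.coe_mul, hii]; simp [t]⟩ (fun h => hd1 ?_) ?_ ?_
      · rw [← hi]
        exact (hθ1 i).2 ((hs _ i.2 h).imp (fun h => Units.ext h) (fun h => Units.ext (h.trans (by simp))))
      · have h1 : θ (u * i * u⁻¹ * i⁻¹) = 1 := by
          rw [map_mul, map_mul, map_mul, map_inv, map_inv, hi, had]; group
        rcases (hθ1 _).1 h1 with h' | h'
        · exact ⟨1, by rw [← Subgroup.coe_inv, ← Subgroup.coe_inv, ← Subgroup.coe_mul, ← Subgroup.coe_mul,
            ← Subgroup.coe_mul, h', Units.val_one, one_smul]⟩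
        · exact ⟨-1, by rw [← Subgroup.coe_inv, ← Subgroup.coe_inv, ← Subgroup.coe_mul, ← Subgroup.coe_mul,
            ← Subgroup.coe_mul, h']; simp⟩
      · intro h
        exact hda (hi.symm.trans (congrArg e (Subtype.ext h.symm)))
    exact Subtype.ext (by simp [t, hanti, mul_assoc])
  have huz : u * z = z * z * u := by
    rcases hker (u * z) (z * z * u) (by rw [map_mul, map_mul, map_mul, hz, has]) with h | h
    · exact h
    · exfalso
      have h1 : u * z * u = t * (z * z) := by
        rw [h]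
        calc t * (z * z * u) * u = t * (z * z) * (u * u) := by group
          _ = _ := by rw [huu, mul_one]
      have h3 : (u * z * u) * (u * z * u) * (u * z * u) = 1 := by
        calc _ = u * z * (u * u) * z * (u * u) * z * u := by group
          _ = u * (z * z * z) * u := by rw [huu]; group
          _ = 1 := by rw [hz3, mul_one, huu]
      apply htne
      rw [h1] at h3
      calc t = t * (t * t) * ((z * z * z) * (z * z * z)) := by rw [htt, hz3]; group
        _ = t * (z * z) * (t * (z * z)) * (t * (z * z)) := by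
            have hA : z * z * t = t * (z * z) := (htc _).symm
            simp only [mul_assoc] at hA ⊢
            rw [← mul_assoc z z, ← mul_assoc z z]
            simp only [← mul_assoc]
            rw [show t * z * z * t = t * t * z * z by
              rw [mul_assoc (t * z) z t, ← htc z, ← mul_assoc, mul_assoc t z t, ← htc z]; group]
            rw [show t * t * z * z * z * z * t * z * z = t * t * t * z * z * z * z * z * z by
              rw [show t * t * z * z * z * z * t = t * t * t * z * z * z * z by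
                rw [mul_assoc (t*t*z*z*z) z t, ← htc z, ← mul_assoc, mul_assoc (t*t*z*z) z t, ← htc z,
                  ← mul_assoc, mul_assoc (t*t*z) z t, ← htc z, ← mul_assoc, mul_assoc (t*t) z t, ← htc z]
                group]]
        _ = 1 := h3
  -- fix the sign of `i`
  have hθij : θ (i * (z * i * z⁻¹)) = θ (z * (z * i * z⁻¹) * z⁻¹) := by
    simp only [map_mul, map_inv, hi, hz]; exact hds
  obtain ⟨i', hi', hii', hui', hij'⟩ : ∃ i' : M, θ i' = d ∧ i' * i' = t ∧ u * i' = t * i' * u ∧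
      i' * (z * i' * z⁻¹) = z * (z * i' * z⁻¹) * z⁻¹ := by
    rcases hker _ _ hθij with h | h
    · exact ⟨i, hi, hii, hui, h⟩
    · have hc : ∀ a, z * (t * a) * z⁻¹ = t * (z * a * z⁻¹) := fun a => by
        rw [← mul_assoc, ← htc z]; group
      refine ⟨t * i, by rw [map_mul, (hθ1 t).2 (Or.inr rfl), one_mul, hi], ?_, ?_, ?_⟩
      · rw [show t * i * (t * i) = t * (i * t) * i by group, ← htc i,
          show t * (t * i) * i = t * t * (i * i) by group, hii, htt, one_mul]
      · rw [← mul_assoc u t i, ← htc u, mul_assoc t u i, hui]; group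
      · rw [hc, hc, show t * i * (t * (z * i * z⁻¹)) = t * (i * t) * (z * i * z⁻¹) by group, ← htc i,
          show t * (t * i) * (z * i * z⁻¹) = t * t * (i * (z * i * z⁻¹)) by group, htt, one_mul, h]
  have hgen : Subgroup.closure ({i', z, u} : Set M) = ⊤ := by
    set K := Subgroup.closure ({i', z, u} : Set M) with hK
    have hiK : i' ∈ K := Subgroup.subset_closure (by simp)
    have hzK : z ∈ K := Subgroup.subset_closure (by simp)
    have huK : u ∈ K := Subgroup.subset_closure (by simp)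
    have htK : t ∈ K := hii' ▸ mul_mem hiK hiK
    rw [eq_top_iff]
    intro g _
    obtain ⟨x, y, w, v, hg⟩ := s4_words (θ u) (by rw [← map_mul, huu, map_one]) hu1 hsu d hd2 hd1 hdsgn s hs3 hs1
      (θ g)
    have hwK : i' ^ x.val * (z * i' * z⁻¹) ^ y.val * z ^ w.val * u ^ v.val ∈ K :=
      mul_mem (mul_mem (mul_mem (pow_mem hiK _) (pow_mem (mul_mem (mul_mem hzK hiK) (inv_mem hzK)) _))
        (pow_mem hzK _)) (pow_mem huK _)
    rcases hker g _ (show θ g = θ (i' ^ x.val * (z * i' * z⁻¹) ^ y.val * z ^ w.val * u ^ v.val) by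
      simp only [map_mul, map_pow, map_inv, hi', hz]; exact hg) with h | h
    · rw [h]; exact hwK
    · rw [h]; exact mul_mem htK hwK
  exact gl23_of_rel hcard hii' htt htc hz3 hz1 huu (fun h => hu1 (by rw [h, map_one])) huz hui' hij' hgen

end Cfsg.Agent.Mitchell
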