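import Cfsg.Agent.Lib.Mitchell.Free.Block

/-!
# Involutions of a linear group without transvections

* `BH.of_rho_scalar`, `mem_scalars_of_rho_one`, `rho_tP`, `tP_mem_of_commutator`
* `not_dvd_card_range` : the action on the axis has order prime to the characteristic
* `exists_tP`, `commute_tP` : involutions modulo scalars lift uniquely
-/

set_option autoImplicit false
set_option linter.unusedSectionVars false

namespace Cfsg.Agent.Mitchell

open Cfsg.Agent.SL3Max Cfsg.Agent.Transvect Module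

variable {F : Type*} [Field F] (h2 : (2 : F) ≠ 0) {G : Subgroup (GL (Fin 3) F)}
  {P : GL (Fin 3) F}

lemma centre_ne (Q : GL (Fin 3) F) : app Q (Pi.single 2 1 : V3 F) ≠ 0 := fun h =>
  one_ne_zero (by simpa using congrFun ((app Q).map_eq_zero_iff.1 h) 2 : (1 : F) = 0)

lemma mem_scalars_of_app {g : GL (Fin 3) F} {c : F} (h : ∀ x, app g x = c • x) :
    g ∈ Cfsg.Geo.scalars (Fin 3) F := by
  have hc : c ≠ 0 := by
    rintro rfl
    exact one_ne_zero (by
      simpa using congrFun ((app g).map_eq_zero_iff.1 ((h _).trans (zero_smul F (Pi.single 0 1)))) 0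
        : (1 : F) = 0)
  refine (Cfsg.Geo.mem_scalars_iff g).2 ⟨Units.mk0 c hc, Matrix.ext_of_mulVec_single fun i => ?_⟩
  rw [← app_apply, h, Matrix.smul_mulVec, Matrix.one_mulVec]
  rfl

lemma app_of_mem_scalars {g : GL (Fin 3) F} (h : g ∈ Cfsg.Geo.scalars (Fin 3) F) :
    ∃ c : F, c ≠ 0 ∧ (g : Matrix (Fin 3) (Fin 3) F) = c • (1 : Matrix (Fin 3) (Fin 3) F) ∧
      ∀ x, app g x = c • x := by
  obtain ⟨c, hc⟩ := (Cfsg.Geo.mem_scalars_iff g).1 h
  exact ⟨c, c.ne_zero, hc, fun x => by rw [app_apply, hc, Matrix.smul_mulVec, Matrix.one_mulVec]⟩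

lemma scalar_central {s : GL (Fin 3) F} (hs : s ∈ Cfsg.Geo.scalars (Fin 3) F) (g : GL (Fin 3) F) :
    s * g = g * s := by
  obtain ⟨c, -, -, hc⟩ := app_of_mem_scalars hs
  exact gl_ext fun x => by rw [app_mul, app_mul, hc, hc, map_smul]

/-- An element scalar on the axis. -/
theorem BH.of_rho_scalar {g : DP G P} {lam : F}
    (hg : (rho h2 G P g : Matrix (Fin 2) (Fin 2) F) = lam • 1) :
    BH (g : GL (Fin 3) F) (lam * chi h2 G P g) (app P (Pi.single 2 1))
      (((chi h2 G P g - lam * chi h2 G P g) • LinearMap.proj 2) ∘ₗ (app P⁻¹).toLinearMap) := by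
  set g' := toStd G P g with hg'
  obtain ⟨a, b, c, d⟩ := entries h2 g'.2
  have hchi : g'.1.1 2 2 = chi h2 G P g := rfl
  have hne : chiHom h2 g' ≠ 0 := chiHom_ne h2 g'
  have key : ∀ i j : Fin 2, g'.1.1 (Fin.castLE (by omega) i) (Fin.castLE (by omega) j) =
      lam * chi h2 G P g * (1 : Matrix (Fin 2) (Fin 2) F) i j := fun i j => by
    have h := congrFun (congrFun hg i) j
    rw [show rho h2 G P g = blockHom h2 g' from rfl, blockHom_apply, Matrix.smul_apply, smul_eq_mul,
      inv_mul_eq_iff_eq_mul₀ hne] at h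
    rw [h]; show chiHom h2 g' * _ = _ * chiHom h2 g' * _; ring
  have h00 : g'.1.1 0 0 = _ := key 0 0
  have h01 : g'.1.1 0 1 = _ := key 0 1
  have h10 : g'.1.1 1 0 = _ := key 1 0
  have h11 : g'.1.1 1 1 = _ := key 1 1
  have hB : BH g'.1 (lam * chi h2 G P g) (Pi.single 2 1)
      ((chi h2 G P g - lam * chi h2 G P g) • LinearMap.proj 2) := fun x => by
    rw [app_apply]
    funext i
    fin_cases i <;>
      simp [Matrix.mulVec, dotProduct, Fin.sum_univ_three, a, b, c, d, h00, h01, h10, h11, hchi] <;>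
      ring
  have := hB.conj P
  rwa [hg', toStd_apply, show P * (P⁻¹ * (g : GL (Fin 3) F) * P) * P⁻¹ = g by group] at this

theorem mem_scalars_of_rho_one {g : DP G P} (hg : rho h2 G P g = 1) :
    (g : GL (Fin 3) F) ∈ Cfsg.Geo.scalars (Fin 3) F := by
  have h := BH.of_rho_scalar h2 (g := g) (lam := 1) (by rw [hg, one_smul]; rfl)
  exact mem_scalars_of_app (c := chi h2 G P g) fun x => by
    rw [h x, one_mul, sub_self]; simp

theorem rho_of_mem_scalars {g : DP G P} (hg : (g : GL (Fin 3) F) ∈ Cfsg.Geo.scalars (Fin 3) F) :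
    rho h2 G P g = 1 := by
  obtain ⟨c, hc, hm, -⟩ := app_of_mem_scalars hg
  refine Units.ext (Matrix.ext fun i j => ?_)
  rw [show rho h2 G P g = blockHom h2 (toStd G P g) from rfl, blockHom_apply]
  have : (toStd G P g : GL (Fin 3) F).1 = c • (1 : Matrix (Fin 3) (Fin 3) F) := by
    rw [toStd_apply, mul_assoc, scalar_central hg P, inv_mul_cancel_left, hm]
  show ((toStd G P g : GL (Fin 3) F).1 2 2)⁻¹ * _ = _
  rw [this]
  fin_cases i <;> fin_cases j <;> simp [hc]

lemma tP_mem_DP (ht : tP P ∈ G) : tP P ∈ DP G P := (mem_DP G P).2 ⟨ht, rfl⟩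

lemma toStd_tP (ht : tP P ∈ G) : (toStd G P ⟨tP P, tP_mem_DP ht⟩ : GL (Fin 3) F) = d0 := by
  rw [toStd_apply]
  show P⁻¹ * tP P * P = d0
  rw [tP]; group

theorem rho_tP (ht : tP P ∈ G) : rho h2 G P ⟨tP P, tP_mem_DP ht⟩ = -1 := by
  refine Units.ext (Matrix.ext fun i j => ?_)
  rw [show rho h2 G P ⟨tP P, tP_mem_DP ht⟩ = blockHom h2 (toStd G P ⟨tP P, tP_mem_DP ht⟩) from rfl,
    blockHom_apply]
  show ((toStd G P ⟨tP P, tP_mem_DP ht⟩ : GL (Fin 3) F).1 2 2)⁻¹ * _ = _
  rw [toStd_tP ht, d0_val]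
  fin_cases i <;> fin_cases j <;> simp

theorem chi_tP (ht : tP P ∈ G) : chi h2 G P ⟨tP P, tP_mem_DP ht⟩ = 1 := by
  show (toStd G P ⟨tP P, tP_mem_DP ht⟩ : GL (Fin 3) F).1 2 2 = 1
  rw [toStd_tP ht, d0_val]
  simp

/-- An element with `rho = -1` and `chi = 1` is `tP P`. -/
theorem eq_tP {g : DP G P} (hr : rho h2 G P g = -1) (hc : chi h2 G P g = 1) :
    (g : GL (Fin 3) F) = tP P := by
  have h : BH (g : GL (Fin 3) F) _ _ _ := BH.of_rho_scalar h2 (g := g) (lam := -1)
    (by rw [hr]; simp)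
  rw [hc] at h
  refine gl_ext fun x => ?_
  have hφ : (phi0 ∘ₗ (app P⁻¹).toLinearMap) (app P (Pi.single 2 1)) = 2 := by
    show phi0 (app P⁻¹ (app P _)) = 2
    rw [app_inv_app, phi0_single]
  rw [h x, tP_eq_hml, hml_apply hφ]
  simp [phi0]
  ring_nf

/-- A commutator acting as `-1` on the axis is the homology itself. -/
theorem tP_mem_of_commutator {g h : DP G P}
    (hgh : rho h2 G P g * rho h2 G P h = -(rho h2 G P h * rho h2 G P g)) : tP P ∈ G := by
  set k := g * h * g⁻¹ * h⁻¹ with hk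
  have hr : rho h2 G P k = -1 := by
    rw [hk, map_mul, map_mul, map_mul, map_inv, map_inv, hgh, neg_mul, neg_mul, mul_inv_cancel_right,
      mul_inv_cancel]
  have hc : chi h2 G P k = 1 := by
    have hu : ∀ x : DP G P, chi h2 G P x * chi h2 G P x⁻¹ = 1 := fun x => by
      rw [← map_mul, mul_inv_cancel, map_one]
    rw [hk, map_mul, map_mul, map_mul]
    linear_combination (chi h2 G P h * chi h2 G P h⁻¹) * hu g + hu h
  exact eq_tP h2 hr hc ▸ ((mem_DP G P).1 k.2).1

/-- The group induced on the axis has order prime to the characteristic. -/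
theorem not_dvd_card_range [Finite F] (hE : ElationFree G) (p : ℕ) [Fact p.Prime] [CharP F p] :
    ¬ p ∣ Nat.card (rho h2 G P).range := by
  intro hdvd
  obtain ⟨x, hx⟩ := exists_prime_orderOf_dvd_card' p hdvd
  obtain ⟨y, hy⟩ := x.2
  have hn : orderOf y ≠ 0 := (orderOf_pos y).ne'
  obtain ⟨k, m, hm, hkm⟩ := Nat.exists_eq_pow_mul_and_not_dvd hn p (Fact.out : p.Prime).ne_one
  set z := y ^ m with hz
  have hzk : z ^ (p ^ k) = 1 := by rw [hz, ← pow_mul, mul_comm, ← hkm, pow_orderOf_eq_one]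
  have hxm : rho h2 G P z ≠ 1 := by
    intro h
    apply hm
    rw [hz, map_pow, hy, ← Subgroup.coe_pow, OneMemClass.coe_eq_one] at h
    exact hx ▸ orderOf_dvd_of_pow_eq_one h
  have hpow : ∀ {R : Type _} [Ring R] [CharP R p] (r : R), r ^ p ^ k = 1 → (r - 1) ^ p ^ k = 0 := by
    intro R _ _ r hr
    rw [sub_pow_char_pow_of_commute p k (Commute.one_right r), hr, one_pow, sub_self]
  have hc : chi h2 G P z = 1 := by
    have h := hpow (chi h2 G P z) (by rw [← map_pow, hzk, map_one])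
    exact sub_eq_zero.1 (eq_zero_of_pow_eq_zero h)
  set N : Matrix (Fin 2) (Fin 2) F := (rho h2 G P z : Matrix (Fin 2) (Fin 2) F) - 1 with hN
  have hN0 : N ^ p ^ k = 0 := hpow _ (by
    rw [← Units.val_pow_eq_pow_val, ← map_pow, hzk, map_one]; rfl)
  have hdet : N.det = 0 := by
    have := congrArg Matrix.det hN0
    rw [Matrix.det_pow, Matrix.det_zero] at this
    exact eq_zero_of_pow_eq_zero this
  have hNN : N * N = N.trace • N := by
    rw [Matrix.det_fin_two] at hdet
    ext i j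
    fin_cases i <;> fin_cases j <;>
      simp [Matrix.mul_apply, Fin.sum_univ_two, Matrix.trace_fin_two] <;>
      first
        | linear_combination -hdet
        | linear_combination hdet
        | ring
  have hNne : N ≠ 0 := fun h => hxm (Units.ext (sub_eq_zero.1 h))
  have htr : N.trace = 0 := by
    have hpw : ∀ j, N ^ (j + 1) = N.trace ^ j • N := by
      intro j
      induction j with
      | zero => simp
      | succ j ih => rw [pow_succ, ih, smul_mul_assoc, hNN, smul_smul, ← pow_succ]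
    obtain ⟨j, hj⟩ := Nat.exists_eq_succ_of_ne_zero (pow_ne_zero k (Fact.out : p.Prime).ne_zero)
    rw [hj, hpw, smul_eq_zero] at hN0
    exact eq_zero_of_pow_eq_zero (hN0.resolve_right hNne)
  set g' := toStd G P z with hg'
  obtain ⟨a, b, c, d⟩ := entries h2 g'.2
  have hchi : g'.1.1 2 2 = 1 := hc
  have key : ∀ i j : Fin 2, g'.1.1 (Fin.castLE (by omega) i) (Fin.castLE (by omega) j) =
      N i j + (1 : Matrix (Fin 2) (Fin 2) F) i j := fun i j => by
    rw [hN, Matrix.sub_apply, show rho h2 G P z = blockHom h2 g' from rfl, blockHom_apply,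
      show chiHom h2 g' = 1 from hc, inv_one, one_mul, sub_add_cancel]
  have h00 : g'.1.1 0 0 = _ := key 0 0
  have h01 : g'.1.1 0 1 = _ := key 0 1
  have h10 : g'.1.1 1 0 = _ := key 1 0
  have h11 : g'.1.1 1 1 = _ := key 1 1
  rw [Matrix.trace_fin_two] at htr
  rw [Matrix.det_fin_two] at hdet
  have hB : ∃ (w : V3 F) (ψ : D3 F), ψ w = 0 ∧ BH g'.1 1 w ψ := by
    by_cases h0 : N 0 1 = 0
    · have hA : N 0 0 = 0 := mul_self_eq_zero.1 (by linear_combination -hdet + N 0 0 * htr - N 1 0 * h0)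
      refine ⟨Pi.single 1 1, N 1 0 • LinearMap.proj 0, by simp, fun v => ?_⟩
      rw [app_apply]
      funext i
      fin_cases i <;>
        simp [Matrix.mulVec, dotProduct, Fin.sum_univ_three, a, b, c, d, h00, h01, h10, h11, hchi,
          h0, hA, show N 1 1 = 0 by linear_combination htr - hA]
      ring
    · refine ⟨N 0 1 • Pi.single 0 1 + N 1 1 • Pi.single 1 1,
        (N 0 0 / N 0 1) • LinearMap.proj 0 + LinearMap.proj 1, ?_, fun v => ?_⟩
      · simp; field_simp; linear_combination htr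
      · have h10' : N 1 0 = N 1 1 * (N 0 0 / N 0 1) := by field_simp; linear_combination -hdet
        rw [app_apply]
        funext i
        fin_cases i <;>
          simp [Matrix.mulVec, dotProduct, Fin.sum_univ_three, a, b, c, d, h00, h01, h10, h11, hchi,
            h10'] <;>
          field_simp <;> ring
  obtain ⟨w, ψ, hw, hB⟩ := hB
  have h1 := hB.conj P
  rw [hg', toStd_apply, show P * (P⁻¹ * (z : GL (Fin 3) F) * P) * P⁻¹ = z by group] at h1
  have hz1 : (z : GL (Fin 3) F) = 1 := efree_bh hE ((mem_DP G P).1 z.2).1 h1 (by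
    show ψ (app P⁻¹ (app P w)) = 0
    rw [app_inv_app, hw])
  exact hxm (by rw [show z = 1 from Subtype.ext hz1, map_one])

lemma tP_not_mem_scalars (h2 : (2 : F) ≠ 0) : tP P ∉ Cfsg.Geo.scalars (Fin 3) F := by
  intro h
  have hd : tP P = d0 := by
    have h' : P⁻¹ * tP P * P = tP P := by
      rw [mul_assoc, scalar_central h P, inv_mul_cancel_left]
    rw [← h']; simp [tP, mul_assoc]
  rw [hd] at h
  obtain ⟨c, -, hc, -⟩ := app_of_mem_scalars h
  rw [d0_val] at hc
  have e0 := congrFun (congrFun hc 0) 0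
  have e2 := congrFun (congrFun hc 2) 2
  simp at e0 e2
  exact h2 (by linear_combination e2 - e0)

lemma det_scalar {g : GL (Fin 3) F} {c : F}
    (hc : (g : Matrix (Fin 3) (Fin 3) F) = c • (1 : Matrix (Fin 3) (Fin 3) F)) :
    (g : Matrix (Fin 3) (Fin 3) F).det = c ^ 3 := by
  rw [hc, Matrix.det_smul, Matrix.det_one, mul_one, Fintype.card_fin]

include h2 in
/-- An involution modulo scalars is a scalar times an involutory homology. -/
theorem exists_tP (hsl : G ≤ Cfsg.Geo.specialLinear (Fin 3) F)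
    (hZ : Cfsg.Geo.scalars (Fin 3) F ⊓ Cfsg.Geo.specialLinear (Fin 3) F ≤ G)
    {u : GL (Fin 3) F} (hu : u ∈ G) (hu2 : u * u ∈ Cfsg.Geo.scalars (Fin 3) F)
    (hu1 : u ∉ Cfsg.Geo.scalars (Fin 3) F) :
    ∃ Q : GL (Fin 3) F, ∃ s ∈ Cfsg.Geo.scalars (Fin 3) F, tP Q ∈ G ∧ tP Q = s * u := by
  obtain ⟨l, hl0, hl, -⟩ := app_of_mem_scalars hu2
  set s : GL (Fin 3) F := u * u with hs
  have hdu := mem_sl_iff.1 (hsl hu)
  have hl3 : l ^ 3 = 1 := by
    rw [← det_scalar hl, hs, Units.val_mul, Matrix.det_mul, hdu, one_mul]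
  set v := s * u with hv
  have hsG : s ∈ G := mul_mem hu hu
  have hvv : v * v = 1 := by
    have h1 : v * v = s * s * s := by
      rw [hv, mul_assoc, ← mul_assoc u s u, ← scalar_central hu2 u, mul_assoc s u u, ← hs, ← mul_assoc]
    refine h1.trans (Units.ext ?_)
    rw [Units.val_mul, Units.val_mul, hl, Units.val_one, smul_mul_assoc, one_mul, smul_smul,
      smul_mul_assoc, one_mul, smul_smul, show l * l * l = 1 by linear_combination hl3, one_smul]
  have hv1 : v ≠ 1 := fun h => hu1 (by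
    rw [show u = s⁻¹ from eq_inv_of_mul_eq_one_right (hv ▸ h)]; exact inv_mem hu2)
  rcases involution_cases hvv hv1 (mem_sl_iff.1 (hsl (mul_mem hsG hu))) with ⟨h, -⟩ | ⟨-, c, φ, hφ, hc⟩
  · exact absurd h h2
  · obtain ⟨Q, hQ⟩ := exists_frame h2 hφ
    exact ⟨Q, s, hu2, by rw [hQ, ← hc]; exact mul_mem hsG hu, by rw [hQ, ← hc]⟩

/-- Commuting with an involutory homology modulo scalars is commuting with it. -/
theorem commute_tP {g : GL (Fin 3) F} {s : GL (Fin 3) F} (hs : s ∈ Cfsg.Geo.scalars (Fin 3) F)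
    (h : g * tP P = s * (tP P * g)) : g * tP P = tP P * g := by
  obtain ⟨l, hl0, hl, -⟩ := app_of_mem_scalars hs
  have hd : l ^ 3 = 1 := by
    have := congrArg (fun m : GL (Fin 3) F => (m : Matrix (Fin 3) (Fin 3) F).det) h
    simp only [Units.val_mul, Matrix.det_mul, mem_sl_iff.1 (tP_mem_sl P), det_scalar hl, mul_one,
      one_mul] at this
    have hg0 : (g : Matrix (Fin 3) (Fin 3) F).det ≠ 0 :=
      ((Matrix.isUnit_iff_isUnit_det _).1 g.isUnit).ne_zero
    exact mul_right_cancel₀ hg0 (by rw [← this, one_mul])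
  have hss : s * s = 1 := by
    have h' : g = s * s * g := by
      have h1 : g = s * (tP P * g) * tP P := by
        rw [← h, mul_assoc, tP_mul_self, mul_one]
      calc g = s * (tP P * g) * tP P := h1
        _ = s * (tP P * (g * tP P)) := by group
        _ = s * (tP P * (s * (tP P * g))) := by rw [h]
        _ = s * ((tP P * s) * (tP P * g)) := by group
        _ = s * ((s * tP P) * (tP P * g)) := by rw [scalar_central hs (tP P)]
        _ = s * s * (tP P * tP P * g) := by group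
        _ = _ := by rw [tP_mul_self, one_mul]
    exact mul_eq_right.1 h'.symm
  have hl2 : l * l = 1 := by
    have := congrArg (fun m : GL (Fin 3) F => (m : Matrix (Fin 3) (Fin 3) F) 0 0) hss
    simpa [hl] using this
  have h1 : l = 1 := by linear_combination hd - l * hl2
  have hs1 : s = 1 := Units.ext (by rw [hl, h1, one_smul]; rfl)
  rw [h, hs1, one_mul]

end Cfsg.Agent.Mitchell
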