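import Cfsg.Agent.Lib.PSL2.PGL
import Cfsg.Agent.EqLemmas

/-!
# Polyhedral subgroups of `GL₂` of order prime to the characteristic

* `Sc`, `Poly`, `anti_of_comm`
* `poly_model` : modulo scalars `A₄`, `S₄` or `A₅`
* `exists_neg`, `exists_anti`, `exists_move`
* `perm_four_of_involution` : with scalars `±1` and a non-scalar involution the quotient is `S₄`
-/

set_option autoImplicit false
set_option linter.unusedSectionVars false

namespace Cfsg.Agent.Mitchell

open Matrix

variable {F : Type*} [Field F]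

/-- A scalar matrix. -/
def Sc (x : GL (Fin 2) F) : Prop := ∃ c : F, (x : Matrix (Fin 2) (Fin 2) F) = c • 1

/-- Two elements of projective order at least three which do not commute. -/
def Poly (M : Subgroup (GL (Fin 2) F)) : Prop :=
  ∃ x ∈ M, ∃ y ∈ M, ¬ Sc (x * x) ∧ ¬ Sc (y * y) ∧ x * y ≠ y * x

lemma sc_iff_center {x : GL (Fin 2) F} : Sc x ↔ x ∈ Subgroup.center (GL (Fin 2) F) := by
  rw [Matrix.GeneralLinearGroup.center_eq_range_scalar]
  constructor
  · rintro ⟨c, hc⟩
    have hc0 : c ≠ 0 := by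
      rintro rfl
      exact x.ne_zero (by rw [hc, zero_smul])
    exact ⟨Units.mk0 c hc0, Units.ext (by rw [hc]; simp [Matrix.smul_one_eq_diagonal])⟩
  · rintro ⟨c, rfl⟩
    exact ⟨c, by simp [Matrix.smul_one_eq_diagonal]⟩

lemma sc_iff_mk {x : GL (Fin 2) F} : Sc x ↔ ProjGenLinGroup.mk x = 1 := by
  rw [sc_iff_center, ProjGenLinGroup.mk_eq_one]

lemma sc_one : Sc (1 : GL (Fin 2) F) := ⟨1, by simp⟩

lemma sc_comm {x : GL (Fin 2) F} (h : Sc x) (y : GL (Fin 2) F) : x * y = y * x := by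
  obtain ⟨c, hc⟩ := h
  exact Units.ext (by rw [Units.val_mul, Units.val_mul, hc, smul_mul_assoc, one_mul, mul_smul_comm, mul_one])

lemma sq_eq_trace (x : Matrix (Fin 2) (Fin 2) F) : x * x = x.trace • x - x.det • 1 := by
  ext i j
  fin_cases i <;> fin_cases j <;>
    simp [Matrix.mul_apply, Fin.sum_univ_two, Matrix.trace_fin_two, Matrix.det_fin_two] <;> ring

/-- An element anticommuting with something has scalar square. -/
lemma sc_sq_of_anti (h2 : (2 : F) ≠ 0) {x y : GL (Fin 2) F} (h : x * y = -(y * x)) : Sc (x * x) := by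
  have ht : (x : Matrix (Fin 2) (Fin 2) F).trace = 0 := by
    have h1 : (x : Matrix (Fin 2) (Fin 2) F) = -((y * x * y⁻¹ : GL (Fin 2) F) : Matrix (Fin 2) (Fin 2) F) := by
      rw [← Units.val_neg]
      congr 1
      rw [← neg_mul, ← h, mul_inv_cancel_right]
    have := congrArg Matrix.trace h1
    rw [Matrix.trace_neg, Units.val_mul, Units.val_mul, Matrix.trace_units_conj] at this
    exact mul_left_cancel₀ h2 (by linear_combination this)
  exact ⟨-(x : Matrix (Fin 2) (Fin 2) F).det, by rw [Units.val_mul, sq_eq_trace, ht, zero_smul, zero_sub, neg_smul]⟩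

/-- Commuting modulo scalars is commuting or anticommuting. -/
lemma comm_or_anti {x y : GL (Fin 2) F} (h : Sc (x * y * x⁻¹ * y⁻¹)) :
    x * y = y * x ∨ x * y = -(y * x) := by
  obtain ⟨c, hc⟩ := h
  have hd := congrArg Matrix.det hc
  simp only [Units.val_mul, Matrix.det_mul, Matrix.det_smul, Matrix.det_one, Fintype.card_fin,
    Matrix.coe_units_inv, Matrix.det_nonsing_inv, Ring.inverse_eq_inv'] at hd
  have hx0 : (x : Matrix (Fin 2) (Fin 2) F).det ≠ 0 := ((Matrix.isUnit_iff_isUnit_det _).1 x.isUnit).ne_zero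
  have hy0 : (y : Matrix (Fin 2) (Fin 2) F).det ≠ 0 := ((Matrix.isUnit_iff_isUnit_det _).1 y.isUnit).ne_zero
  field_simp at hd
  have hk : x * y = x * y * x⁻¹ * y⁻¹ * (y * x) := by group
  rcases sq_eq_one_iff.1 (show c ^ 2 = 1 by linear_combination -hd) with rfl | rfl
  · left
    rw [hk, show x * y * x⁻¹ * y⁻¹ = 1 from Units.ext (by rw [hc, one_smul]; rfl), one_mul]
  · right
    rw [hk, show x * y * x⁻¹ * y⁻¹ = -1 from Units.ext (by rw [hc, Units.val_neg, Units.val_one, neg_smul, one_smul]),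
      neg_one_mul]

/-- Commuting matrices of trace zero, one of them non-scalar, are proportional. -/
lemma prop_of_comm (h2 : (2 : F) ≠ 0) {x y : Matrix (Fin 2) (Fin 2) F} (hx : x.trace = 0)
    (hy : y.trace = 0) (hx0 : x ≠ 0) (h : x * y = y * x) : ∃ c : F, y = c • x := by
  rw [Matrix.trace_fin_two] at hx hy
  have e01 := congrFun (congrFun h 0) 1
  have e10 := congrFun (congrFun h 1) 0
  have e00 := congrFun (congrFun h 0) 0
  simp [Matrix.mul_apply, Fin.sum_univ_two] at e01 e10 e00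
  have hx11 : x 1 1 = -x 0 0 := by linear_combination hx
  have hy11 : y 1 1 = -y 0 0 := by linear_combination hy
  rw [hx11, hy11] at e01 e10
  have f1 : x 0 0 * y 0 1 = y 0 0 * x 0 1 := mul_left_cancel₀ h2 (by linear_combination e01)
  have f2 : x 0 0 * y 1 0 = y 0 0 * x 1 0 := mul_left_cancel₀ h2 (by linear_combination -e10)
  have f3 : x 0 1 * y 1 0 = y 0 1 * x 1 0 := by linear_combination e00
  by_cases ha : x 0 0 = 0
  · by_cases hb : x 0 1 = 0
    · by_cases hc : x 1 0 = 0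
      · exact absurd (by ext i j; fin_cases i <;> fin_cases j <;> simp [ha, hb, hc, hx11]) hx0
      · refine ⟨y 1 0 / x 1 0, ?_⟩
        have g1 : y 0 0 = 0 := (mul_eq_zero.1 (by rw [← f2, ha, zero_mul])).resolve_right hc
        have g2 : y 0 1 = 0 := (mul_eq_zero.1 (by rw [← f3, hb, zero_mul])).resolve_right hc
        ext i j
        fin_cases i <;> fin_cases j <;> simp [ha, hb, hx11, hy11, g1, g2, hc]
    · refine ⟨y 0 1 / x 0 1, ?_⟩
      have g1 : y 0 0 = 0 := (mul_eq_zero.1 (by rw [← f1, ha, zero_mul])).resolve_right hb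
      ext i j
      fin_cases i <;> fin_cases j <;> simp [ha, hx11, hy11, g1, hb]
      field_simp
      linear_combination f3
  · refine ⟨y 0 0 / x 0 0, ?_⟩
    ext i j
    fin_cases i <;> fin_cases j <;> simp [hx11, hy11, ha] <;> field_simp <;>
      first
        | linear_combination f1
        | linear_combination f2

/-- Two involutions modulo scalars which commute there and differ there anticommute. -/
lemma anti_of_comm (h2 : (2 : F) ≠ 0) {x y : GL (Fin 2) F} (hx : Sc (x * x)) (hx' : ¬ Sc x)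
    (hy : Sc (y * y)) (hy' : ¬ Sc y) (hc : Sc (x * y * x⁻¹ * y⁻¹))
    (hne : ProjGenLinGroup.mk x ≠ ProjGenLinGroup.mk y) : x * y = -(y * x) := by
  rcases comm_or_anti hc with h | h
  · exfalso
    have htr : ∀ {z : GL (Fin 2) F}, Sc (z * z) → ¬ Sc z → (z : Matrix (Fin 2) (Fin 2) F).trace = 0 := by
      intro z ⟨c, hc⟩ hz
      by_contra ht
      rw [Units.val_mul, sq_eq_trace, sub_eq_iff_eq_add, ← add_smul] at hc
      exact hz ⟨(c + (z : Matrix (Fin 2) (Fin 2) F).det) / (z : Matrix (Fin 2) (Fin 2) F).trace,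
        smul_right_injective _ ht (by
          show _ • _ = _ • _
          rw [hc, smul_smul, mul_div_cancel₀ _ ht])⟩
    obtain ⟨c, hcy⟩ := prop_of_comm h2 (htr hx hx') (htr hy hy')
      (fun e => x.ne_zero e) (by rw [← Units.val_mul, ← Units.val_mul, h])
    refine hne ?_
    have hsc : Sc (x⁻¹ * y) := ⟨c, by
      rw [Units.val_mul, hcy, mul_smul_comm, ← Units.val_mul, inv_mul_cancel, Units.val_one]⟩
    rw [sc_iff_mk, map_mul, map_inv, inv_mul_eq_one] at hsc
    exact hsc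
  · exact h

variable [Finite F] (p : ℕ) [Fact p.Prime] [CharP F p] {M : Subgroup (GL (Fin 2) F)}

/-- The group modulo scalars. -/
def img (M : Subgroup (GL (Fin 2) F)) : Subgroup (ProjGenLinGroup (Fin 2) F) := M.map ProjGenLinGroup.mk

/-- Modulo scalars a polyhedral group is `A₄`, `S₄` or `A₅`. -/
theorem poly_model (h2 : (2 : F) ≠ 0) (hM : ¬ p ∣ Nat.card M) (hp : Poly M) :
    Nonempty (img M ≃* alternatingGroup (Fin 4)) ∨ Nonempty (img M ≃* Equiv.Perm (Fin 4)) ∨
      Nonempty (img M ≃* alternatingGroup (Fin 5)) := by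
  obtain ⟨n, -, -, f, hf⟩ := PSL2.exists_pgl_embed (F := F) p
  let N := (img M).map f
  let e : img M ≃* N := Subgroup.equivMapOfInjective _ f hf
  have hd : ¬ p ∣ Nat.card N := fun h => hM (h.trans (by
    rw [← Nat.card_congr e.toEquiv]; exact Subgroup.card_map_dvd _ _))
  obtain ⟨x, hx, y, hy, hxx, hyy, hne⟩ := hp
  let X : img M := ⟨ProjGenLinGroup.mk x, Subgroup.mem_map_of_mem _ hx⟩
  let Y : img M := ⟨ProjGenLinGroup.mk y, Subgroup.mem_map_of_mem _ hy⟩
  have hXX : X * X ≠ 1 := fun h => hxx (sc_iff_mk.2 ((map_mul _ _ _).trans (congrArg Subtype.val h)))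
  have hYY : Y * Y ≠ 1 := fun h => hyy (sc_iff_mk.2 ((map_mul _ _ _).trans (congrArg Subtype.val h)))
  have hXY : X * Y ≠ Y * X := fun h => by
    have hsc : Sc (x * y * x⁻¹ * y⁻¹) := by
      rw [sc_iff_mk, map_mul, map_mul, map_mul, map_inv, map_inv, mul_inv_eq_one, mul_inv_eq_iff_eq_mul]
      exact congrArg Subtype.val h
    exact (comm_or_anti hsc).elim hne fun ha => hxx (sc_sq_of_anti h2 ha)
  rcases PSL2.psl_dickson p N with ⟨h, -⟩ | ⟨-, h, -⟩ | ⟨k, -, -, -, -, -, ⟨d⟩⟩ | ⟨-, h⟩ |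
    ⟨hp3, h, -⟩ | ⟨R, m, -, -, h⟩
  · exact absurd h hd
  · have := (MulEquiv.isCyclic e).2 h
    exact absurd (IsCyclic.commGroup.mul_comm X Y) hXY
  · exfalso
    have key : ∀ a b : DihedralGroup k, a * a ≠ 1 → b * b ≠ 1 → a * b = b * a := by
      rintro (i | i) (j | j) ha hb
      · simp [add_comm]
      · simp at hb
      · simp at ha
      · simp at ha
    let φ := e.trans d
    exact hXY (φ.injective (by
      rw [map_mul, map_mul]
      exact key _ _ (fun h => hXX (φ.injective (by rw [map_mul, h, map_one])))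
        (fun h => hYY (φ.injective (by rw [map_mul, h, map_one])))))
  · rcases h with ⟨⟨d⟩⟩ | ⟨⟨d⟩⟩ | ⟨⟨d⟩⟩
    · exact Or.inl ⟨e.trans d⟩
    · exact Or.inr (Or.inl ⟨e.trans d⟩)
    · exact Or.inr (Or.inr ⟨e.trans d⟩)
  · exact absurd (by rw [h, hp3]; norm_num) hd
  · exfalso
    apply hd
    have hR : p ∣ Nat.card (ProjectiveSpecialLinearGroup (Fin 2) R) := by
      exact PSL2.dvd_card_psl p
    rcases h with ⟨⟨d⟩⟩ | ⟨-, -, ⟨d⟩⟩
    · rwa [Nat.card_congr d.toEquiv]
    · rw [Nat.card_congr d.toEquiv]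
      exact hR.trans (Subgroup.card_dvd_of_injective _ ProjectiveSpecialLinearGroup.toPGL_injective)

section models

variable (h2 : (2 : F) ≠ 0) (hM : ¬ p ∣ Nat.card M) (hp : Poly M)

include h2 hM hp

lemma img_fact (Q : ∀ (H : Type) [Group H], Prop)
    (h4 : Q (alternatingGroup (Fin 4))) (h4' : Q (Equiv.Perm (Fin 4))) (h5 : Q (alternatingGroup (Fin 5))) :
    ∃ (H : Type) (_ : Group H) (_ : img M ≃* H), Q H := by
  rcases poly_model p h2 hM hp with ⟨⟨e⟩⟩ | ⟨⟨e⟩⟩ | ⟨⟨e⟩⟩
  exacts [⟨_, _, e, h4⟩, ⟨_, _, e, h4'⟩, ⟨_, _, e, h5⟩]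

/-- A non-scalar element with scalar square is conjugate to its negative. -/
theorem exists_neg {u : GL (Fin 2) F} (hu : u ∈ M) (hu1 : ¬ Sc u) (hu2 : Sc (u * u)) :
    ∃ g ∈ M, g * u * g⁻¹ = -u := by
  obtain ⟨H, _, e, hQ⟩ := img_fact p h2 hM hp
    (fun H _ => ∀ a : H, a * a = 1 → a ≠ 1 → ∃ b, b * b = 1 ∧ b ≠ 1 ∧ b ≠ a ∧ a * b = b * a)
    (by decide +kernel) (by decide +kernel) (by decide +kernel)
  let U : img M := ⟨ProjGenLinGroup.mk u, Subgroup.mem_map_of_mem _ hu⟩
  obtain ⟨b, hb1, hb2, hb3, hb4⟩ := hQ (e U)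
    (by rw [← map_mul, show U * U = 1 from Subtype.ext ((map_mul _ _ _).symm.trans (sc_iff_mk.1 hu2)), map_one])
    (fun h => hu1 (sc_iff_mk.2 (congrArg Subtype.val (e.map_eq_one_iff.1 h))))
  obtain ⟨g, hg, hgb⟩ := (e.symm b).2
  have hmk : ∀ z : img M, e z = b → (z : ProjGenLinGroup (Fin 2) F) = ProjGenLinGroup.mk g := fun z hz => by
    rw [hgb, ← hz, e.symm_apply_apply]
  have hbg : (e.symm b : ProjGenLinGroup (Fin 2) F) = ProjGenLinGroup.mk g := hgb.symm
  have hanti : g * u = -(u * g) := by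
    refine anti_of_comm h2 ?_ ?_ hu2 hu1 ?_ ?_
    · rw [sc_iff_mk, map_mul, ← hbg, ← Subgroup.coe_mul, ← map_mul, hb1, map_one, OneMemClass.coe_one]
    · rw [sc_iff_mk, ← hbg, OneMemClass.coe_eq_one, e.symm.map_eq_one_iff]
      exact hb2
    · rw [sc_iff_mk, map_mul, map_mul, map_mul, map_inv, map_inv, ← hbg]
      have : e.symm b * U = U * e.symm b := e.injective (by
        rw [map_mul, map_mul, e.apply_symm_apply, hb4])
      rw [show (ProjGenLinGroup.mk u) = (U : ProjGenLinGroup (Fin 2) F) from rfl, ← Subgroup.coe_mul,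
        this, Subgroup.coe_mul]
      group
    · rw [← hbg]
      intro h
      exact hb3 (by rw [show U = e.symm b from Subtype.ext h.symm, e.apply_symm_apply])
  exact ⟨g, hg, by rw [hanti, neg_mul, mul_inv_cancel_right]⟩

/-- A conjugate moving the image of a non-scalar element with scalar square. -/
theorem exists_move {u : GL (Fin 2) F} (hu : u ∈ M) (hu1 : ¬ Sc u) (hu2 : Sc (u * u)) :
    ∃ g ∈ M, ProjGenLinGroup.mk (g * u * g⁻¹) ≠ ProjGenLinGroup.mk u := by
  obtain ⟨H, _, e, hQ⟩ := img_fact p h2 hM hp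
    (fun H _ => ∀ a : H, a * a = 1 → a ≠ 1 → ∃ b, b * a * b⁻¹ ≠ a)
    (by decide +kernel) (by decide +kernel) (by decide +kernel)
  let U : img M := ⟨ProjGenLinGroup.mk u, Subgroup.mem_map_of_mem _ hu⟩
  obtain ⟨b, hb⟩ := hQ (e U)
    (by rw [← map_mul, show U * U = 1 from Subtype.ext ((map_mul _ _ _).symm.trans (sc_iff_mk.1 hu2)), map_one])
    (fun h => hu1 (sc_iff_mk.2 (congrArg Subtype.val (e.map_eq_one_iff.1 h))))
  obtain ⟨g, hg, hgb⟩ := (e.symm b).2
  refine ⟨g, hg, fun h => hb ?_⟩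
  rw [map_mul, map_mul, map_inv, hgb] at h
  have : e.symm b * U * (e.symm b)⁻¹ = U := Subtype.ext (by simpa using h)
  simpa using congrArg e this

/-- There are anticommuting elements. -/
theorem exists_anti : ∃ g ∈ M, ∃ h ∈ M, g * h = -(h * g) := by
  obtain ⟨H, _, e, hQ⟩ := img_fact p h2 hM hp (fun H _ => ∃ a : H, a * a = 1 ∧ a ≠ 1)
    (by decide +kernel) (by decide +kernel) (by decide +kernel)
  obtain ⟨a, ha, ha1⟩ := hQ
  obtain ⟨u, hu, hua⟩ := (e.symm a).2
  obtain ⟨g, hg, hgu⟩ := exists_neg p h2 hM hp hu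
    (fun h => ha1 (by
      rw [← e.apply_symm_apply a, e.map_eq_one_iff]
      exact Subtype.ext (hua ▸ sc_iff_mk.1 h)))
    (sc_iff_mk.2 (by rw [map_mul, hua, ← Subgroup.coe_mul, ← map_mul, ha, map_one, OneMemClass.coe_one]))
  exact ⟨g, hg, u, hu, by rw [← neg_mul, ← hgu, inv_mul_cancel_right]⟩

omit hp in
/-- With scalars `±1` and a non-scalar involution the image is `S₄`. -/
theorem perm_four_of_involution (hp : Poly M)
    (hs : ∀ x ∈ M, Sc x → (x : Matrix (Fin 2) (Fin 2) F) = 1 ∨ (x : Matrix (Fin 2) (Fin 2) F) = -1)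
    {u : GL (Fin 2) F} (hu : u ∈ M) (hu1 : ¬ Sc u) (hu2 : u * u = 1) :
    Nonempty (img M ≃* Equiv.Perm (Fin 4)) := by
  have key : ∀ {H : Type} [Group H], (img M ≃* H) →
      (∀ a : H, a * a = 1 → ∃ b c : H, a = b * c * b⁻¹ * c⁻¹) → False := by
    intro H _ e hQ
    let U : img M := ⟨ProjGenLinGroup.mk u, Subgroup.mem_map_of_mem _ hu⟩
    obtain ⟨b, c, hbc⟩ := hQ (e U) (by
      rw [← map_mul, show U * U = 1 from Subtype.ext ((map_mul _ _ _).symm.trans (by rw [hu2, map_one]; rfl)), map_one])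
    obtain ⟨g, hg, hgb⟩ := (e.symm b).2
    obtain ⟨k, hk, hkc⟩ := (e.symm c).2
    have hsc : Sc ((g * k * g⁻¹ * k⁻¹)⁻¹ * u) := by
      rw [sc_iff_mk, map_mul, map_inv, map_mul, map_mul, map_mul, map_inv, map_inv, hgb, hkc,
        inv_mul_eq_one]
      show _ = (U : ProjGenLinGroup (Fin 2) F)
      rw [← e.symm_apply_apply U, hbc]
      simp
    have hd : (u : Matrix (Fin 2) (Fin 2) F).det = 1 := by
      have h1 := hs _ (mul_mem (inv_mem (mul_mem (mul_mem (mul_mem hg hk) (inv_mem hg)) (inv_mem hk))) hu) hsc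
      have hx : Matrix.det (((g * k * g⁻¹ * k⁻¹)⁻¹ * u : GL (Fin 2) F) : Matrix (Fin 2) (Fin 2) F) = 1 := by
        rcases h1 with h | h <;> rw [h, Matrix.det_fin_two] <;> simp
      have hdet : Matrix.GeneralLinearGroup.det ((g * k * g⁻¹ * k⁻¹)⁻¹ * u) = Matrix.GeneralLinearGroup.det u := by
        simp [mul_comm, mul_left_comm]
      have := congrArg Units.val hdet
      simp only [Matrix.GeneralLinearGroup.val_det_apply] at this
      rwa [← this]
    have h := sq_eq_trace (u : Matrix (Fin 2) (Fin 2) F)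
    rw [← Units.val_mul, hu2, hd, Units.val_one, one_smul, eq_sub_iff_add_eq] at h
    by_cases ht : (u : Matrix (Fin 2) (Fin 2) F).trace = 0
    · rw [ht, zero_smul] at h
      have := congrFun (congrFun h 0) 0
      simp at this
      exact h2 (by linear_combination this)
    · exact hu1 ⟨2 / (u : Matrix (Fin 2) (Fin 2) F).trace, smul_right_injective _ ht (by
        show _ • _ = _ • _
        rw [← h, smul_smul, mul_div_cancel₀ _ ht, two_smul])⟩
  rcases poly_model p h2 hM hp with ⟨⟨e⟩⟩ | h | ⟨⟨e⟩⟩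
  · exact (key e (by decide +kernel)).elim
  · exact h
  · exact (key e (by decide +kernel)).elim

end models

end Cfsg.Agent.Mitchell
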