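import Cfsg.Agent.Lib.Mitchell.Free.Levi
import Cfsg.Agent.Lib.Mitchell.Free.GLTwo
import Cfsg.Agent.Lib.ZStar.Apply
import Cfsg.Agent.Lib.ZStarPrimePower.Proved

/-!
# A simple transvection-free group: the dictionary between `G` and `G` modulo scalars

* `Ctx`, `Sq`, `pr`
* `inv_eq`, `commute_lift`, `exists_lift`, `cent_equiv`
* `exists_commuting_conj` : an involution commutes with another of its conjugates
-/

set_option autoImplicit false
set_option linter.unusedSectionVars false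

namespace Cfsg.Agent.Mitchell

open Cfsg.Agent.SL3Max Cfsg.Agent.Transvect

universe u

variable {F : Type u} [Field F]

/-- `G` modulo scalars. -/
abbrev Sq (G : Subgroup (GL (Fin 3) F)) : Type u :=
  ↥G ⧸ (Cfsg.Geo.scalars (Fin 3) F).subgroupOf G

/-- The projection. -/
abbrev pr (G : Subgroup (GL (Fin 3) F)) : ↥G →* Sq G :=
  QuotientGroup.mk' ((Cfsg.Geo.scalars (Fin 3) F).subgroupOf G)

/-- Our standing hypotheses. -/
structure Ctx (G : Subgroup (GL (Fin 3) F)) : Prop where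
  two_ne : (2 : F) ≠ 0
  sl : G ≤ Cfsg.Geo.specialLinear (Fin 3) F
  hz : Cfsg.Geo.scalars (Fin 3) F ⊓ Cfsg.Geo.specialLinear (Fin 3) F ≤ G
  efree : ElationFree G
  simple : IsSimpleGroup (Sq G)
  nonab : ¬ IsMulCommutative (Sq G)

variable {G : Subgroup (GL (Fin 3) F)}

lemma pr_eq_one {g : ↥G} : pr G g = 1 ↔ (g : GL (Fin 3) F) ∈ Cfsg.Geo.scalars (Fin 3) F :=
  QuotientGroup.eq_one_iff g

lemma pr_eq {g h : ↥G} :
    pr G g = pr G h ↔ (g : GL (Fin 3) F) * (h : GL (Fin 3) F)⁻¹ ∈ Cfsg.Geo.scalars (Fin 3) F := by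
  rw [← mul_inv_eq_one, ← map_inv, ← map_mul, pr_eq_one]
  rfl

namespace Ctx

variable (C : Ctx G)
include C

/-- Involutory homologies equal modulo scalars are equal. -/
lemma inv_eq {P : GL (Fin 3) F} {u : GL (Fin 3) F} (hu : u * u = 1)
    (hd : u ∈ Cfsg.Geo.specialLinear (Fin 3) F)
    (h : tP P * u⁻¹ ∈ Cfsg.Geo.scalars (Fin 3) F) : tP P = u := by
  obtain ⟨s, hs, hsu⟩ : ∃ s ∈ Cfsg.Geo.scalars (Fin 3) F, tP P = s * u :=
    ⟨_, h, (inv_mul_cancel_right _ _).symm⟩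
  obtain ⟨l, -, hl, -⟩ := app_of_mem_scalars hs
  have h1 : s * s = 1 := by
    have := tP_mul_self P
    rw [hsu, mul_assoc, ← mul_assoc u s u, ← scalar_central hs u, mul_assoc s u u, hu, mul_one] at this
    exact this
  have h3 : l ^ 3 = 1 := by
    have := mem_sl_iff.1 (tP_mem_sl P)
    rwa [hsu, Units.val_mul, Matrix.det_mul, mem_sl_iff.1 hd, mul_one, det_scalar hl] at this
  have h2 : l * l = 1 := by
    have := congrArg (fun m : GL (Fin 3) F => (m : Matrix (Fin 3) (Fin 3) F) 0 0) h1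
    simpa [hl] using this
  have hl1 : l = 1 := by linear_combination h3 - l * h2
  rw [hsu, show s = 1 from Units.ext (by rw [hl, hl1, one_smul]; rfl), one_mul]

lemma commute_lift {P : GL (Fin 3) F} (ht : tP P ∈ G) {g : ↥G}
    (h : pr G g * pr G ⟨tP P, ht⟩ = pr G ⟨tP P, ht⟩ * pr G g) :
    (g : GL (Fin 3) F) * tP P = tP P * g := by
  rw [← map_mul, ← map_mul, pr_eq] at h
  exact commute_tP h (by show _ = _ * (tP P * g); simp [mul_assoc])

lemma mem_DP_of_commute {P : GL (Fin 3) F} (ht : tP P ∈ G) {g : ↥G}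
    (h : pr G g * pr G ⟨tP P, ht⟩ = pr G ⟨tP P, ht⟩ * pr G g) : (g : GL (Fin 3) F) ∈ DP G P :=
  (mem_DP G P).2 ⟨g.2, C.commute_lift ht h⟩

lemma orderOf_pr_tP {P : GL (Fin 3) F} (ht : tP P ∈ G) : orderOf (pr G ⟨tP P, ht⟩) = 2 :=
  orderOf_eq_prime (by
    rw [pow_two, ← map_mul, show (⟨tP P, ht⟩ : ↥G) * ⟨tP P, ht⟩ = 1 from Subtype.ext (tP_mul_self P),
      map_one]) (fun h => tP_not_mem_scalars C.two_ne (pr_eq_one.1 h))

lemma exists_lift {x : Sq G} (hx : orderOf x = 2) :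
    ∃ (P : GL (Fin 3) F) (ht : tP P ∈ G), pr G ⟨tP P, ht⟩ = x := by
  obtain ⟨g, rfl⟩ := QuotientGroup.mk'_surjective _ x
  have h2 : pr G (g * g) = 1 := by rw [map_mul, ← pow_two, ← hx, pow_orderOf_eq_one]
  have h1 : (g : GL (Fin 3) F) ∉ Cfsg.Geo.scalars (Fin 3) F := fun h => by
    rw [pr_eq_one.2 h, orderOf_one] at hx; norm_num at hx
  obtain ⟨Q, s, hs, hQ, he⟩ := exists_tP C.two_ne C.sl C.hz g.2 (pr_eq_one.1 h2) h1
  exact ⟨Q, hQ, pr_eq.2 (by show tP Q * _ ∈ _; rw [he, mul_inv_cancel_right]; exact hs)⟩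

/-- The centraliser of an involution is the group induced on its axis. -/
theorem cent_equiv {P : GL (Fin 3) F} (ht : tP P ∈ G) :
    ∃ e : ↥(Subgroup.centralizer ({pr G ⟨tP P, ht⟩} : Set (Sq G))) ≃* ↥(rho C.two_ne G P).range,
      ∀ (g : DP G P) (h : pr G ⟨g, ((mem_DP G P).1 g.2).1⟩ ∈ Subgroup.centralizer {pr G ⟨tP P, ht⟩}),
        (e ⟨_, h⟩ : GL (Fin 2) F) = rho C.two_ne G P g := by
  let i : DP G P →* ↥G := Subgroup.inclusion inf_le_left
  have hmem : ∀ g : DP G P, pr G (i g) ∈ Subgroup.centralizer ({pr G ⟨tP P, ht⟩} : Set (Sq G)) := fun g =>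
    Subgroup.mem_centralizer_singleton_iff.2 (by
      rw [← map_mul, ← map_mul]
      exact congrArg _ (Subtype.ext ((mem_DP G P).1 g.2).2))
  let f : DP G P →* ↥(Subgroup.centralizer ({pr G ⟨tP P, ht⟩} : Set (Sq G))) :=
    ((pr G).comp i).codRestrict _ hmem
  have hf : Function.Surjective f := by
    rintro ⟨x, hx⟩
    obtain ⟨g, rfl⟩ := QuotientGroup.mk'_surjective _ x
    exact ⟨⟨g, C.mem_DP_of_commute ht (Subgroup.mem_centralizer_singleton_iff.1 hx)⟩, rfl⟩
  have hk : f.ker = (rho C.two_ne G P).ker := by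
    ext g
    rw [MonoidHom.mem_ker, MonoidHom.mem_ker, Subtype.ext_iff]
    show pr G (i g) = 1 ↔ _
    rw [pr_eq_one]
    exact ⟨fun h => rho_of_mem_scalars C.two_ne h, fun h => mem_scalars_of_rho_one C.two_ne h⟩
  refine ⟨(QuotientGroup.quotientKerEquivOfSurjective f hf).symm.trans
    ((QuotientGroup.quotientMulEquivOfEq hk).trans (QuotientGroup.quotientKerEquivRange _)), ?_⟩
  intro g h
  have : (QuotientGroup.quotientKerEquivOfSurjective f hf).symm ⟨_, h⟩ = QuotientGroup.mk g := by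
    rw [MulEquiv.symm_apply_eq]; rfl
  rw [MulEquiv.trans_apply, this]
  rfl

lemma center_eq_bot [Finite F] : Subgroup.center (Sq G) = ⊥ := by
  haveI := C.simple
  rcases (inferInstance : (Subgroup.center (Sq G)).Normal).eq_bot_or_eq_top with h | h
  · exact h
  · exact absurd ⟨⟨fun a b => Subgroup.mem_center_iff.1 (h ▸ Subgroup.mem_top b) a⟩⟩ C.nonab

/-- An involution commutes with another of its conjugates. -/
theorem exists_commuting_conj [Finite F] {P : GL (Fin 3) F} (ht : tP P ∈ G) :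
    ∃ g : ↥G, (g : GL (Fin 3) F) * tP P * (g : GL (Fin 3) F)⁻¹ ≠ tP P ∧
      (g : GL (Fin 3) F) * tP P * (g : GL (Fin 3) F)⁻¹ ∈ DP G P := by
  haveI := C.simple
  by_contra hall
  push Not at hall
  have hiso : Cfsg.IsIsolatedInvolution (pr G ⟨tP P, ht⟩) := by
    refine ⟨C.orderOf_pr_tP ht, fun x hx => ?_⟩
    obtain ⟨g, rfl⟩ := QuotientGroup.mk'_surjective _ x
    obtain ⟨t, htd⟩ : ∃ t : ↥G, t = ⟨tP P, ht⟩ := ⟨_, rfl⟩
    rw [← htd] at hx ⊢
    obtain ⟨k, hk⟩ : ∃ k : ↥G, k = g * t * g⁻¹ := ⟨_, rfl⟩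
    have hk' : pr G k = pr G g * pr G t * (pr G g)⁻¹ := by rw [hk, map_mul, map_mul, map_inv]
    rw [← hk'] at hx ⊢
    subst htd
    have hx' : pr G k * pr G ⟨tP P, ht⟩ = pr G ⟨tP P, ht⟩ * pr G k := hx.eq.symm
    have hc := C.mem_DP_of_commute ht hx'
    subst hk
    rw [Subgroup.coe_mul, Subgroup.coe_mul, Subgroup.coe_inv] at hc
    refine congrArg (pr G) (Subtype.ext ?_)
    rw [Subgroup.coe_mul, Subgroup.coe_mul, Subgroup.coe_inv]
    exact by_contra fun h => hall g h hc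
  have hcore : Cfsg.pPrimeCore 2 (Sq G) = ⊥ := by
    haveI : Fact (Nat.Prime 2) := ⟨Nat.prime_two⟩
    rcases (Cores.pPrimeCore_normal 2 (Sq G)).eq_bot_or_eq_top with h | h
    · exact h
    · have hodd := Cores.coprime_card_pPrimeCore (G := Sq G) 2
      rw [h, Subgroup.card_top] at hodd
      have h2 : 2 ∣ Nat.card (Sq G) := C.orderOf_pr_tP ht ▸ orderOf_dvd_natCard _
      exact absurd (Nat.coprime_two_right.1 hodd) (by simpa [Nat.not_odd_iff_even, even_iff_two_dvd] using h2)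
  have hmem := ZStar.isolated_mem_center ZStarPrimePower.uniqueInvolutionZStar_proved hiso hcore
  rw [C.center_eq_bot, Subgroup.mem_bot] at hmem
  have := C.orderOf_pr_tP ht
  rw [hmem, orderOf_one] at this
  norm_num at this

end Ctx

end Cfsg.Agent.Mitchell
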