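import Mathlib
import Cfsg.Agent.EqLemmas

/-!
# Regular friendship graphs

* `friendship_false` : no regular graph of degree at least three has exactly one common neighbour for
  every two vertices
-/

set_option autoImplicit false

namespace Cfsg.Agent.Mitchell

open Matrix Finset

/-- A regular friendship graph has degree at most two. -/
theorem friendship_false {V : Type*} [Finite V] [Nonempty V] (R : V → V → Prop)
    (hsymm : ∀ a b, R a b → R b a) (hirr : ∀ a, ¬ R a a)
    (hone : ∀ a b, a ≠ b → ∃! c, R a c ∧ R b c)
    (d : ℕ) (hd : 3 ≤ d) (hreg : ∀ a, Nat.card {c // R a c} = d) : False := by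
  classical
  have : Fintype V := Fintype.ofFinite V
  obtain ⟨r, hr, hrd⟩ := Nat.exists_prime_and_dvd (show d - 1 ≠ 1 by omega)
  have : Fact r.Prime := ⟨hr⟩
  have hdr : (d : ZMod r) = 1 := by
    obtain ⟨k, hk⟩ := hrd
    have : d = r * k + 1 := by omega
    simp [this]
  let A : Matrix V V (ZMod r) := fun a b => if R a b then 1 else 0
  let J : Matrix V V (ZMod r) := fun _ _ => 1
  have hrow : ∀ a, ∑ c, A a c = 1 := fun a => by
    have h1 : ∑ c, A a c = ((univ.filter fun c => R a c).card : ZMod r) := by
      simp [A, Finset.sum_boole]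
    rw [h1, ← hdr, ← hreg a, Nat.card_eq_fintype_card, Fintype.card_subtype]
  have hAA : A * A = J := by
    ext a b
    show ∑ c, A a c * A c b = 1
    by_cases hab : a = b
    · subst hab
      rw [← hrow a]
      refine Finset.sum_congr rfl fun c _ => ?_
      by_cases h : R a c
      · simp [A, h, hsymm _ _ h]
      · simp [A, h]
    · obtain ⟨c0, ⟨h1, h2⟩, huniq⟩ := hone a b hab
      rw [Finset.sum_eq_single c0]
      · simp [A, h1, hsymm _ _ h2]
      · intro c _ hc
        by_cases h : R a c
        · have : ¬ R c b := fun h' => hc (huniq c ⟨h, hsymm _ _ h'⟩)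
          simp [A, this]
        · simp [A, h]
      · simp
  have hAJ : A * J = J := by
    ext a b
    show ∑ c, A a c * 1 = 1
    simp only [mul_one]
    exact hrow a
  have hpow : ∀ k, A ^ (k + 2) = J := by
    intro k
    induction k with
    | zero => rw [zero_add, pow_two, hAA]
    | succ k ih => rw [show k + 1 + 2 = (k + 2) + 1 from rfl, pow_succ', ih, hAJ]
  have hn : (Fintype.card V : ZMod r) = 1 := by
    have hJJ : J * J = J := by
      calc J * J = A * A * J := by rw [hAA]
        _ = J := by rw [Matrix.mul_assoc, hAJ, hAJ]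
    obtain ⟨a⟩ := ‹Nonempty V›
    have := congrFun (congrFun hJJ a) a
    rw [Matrix.mul_apply] at this
    simpa [J] using this
  have htr : Matrix.trace (A ^ r) = (Matrix.trace A) ^ r := ZMod.trace_pow_card A
  have hA0 : Matrix.trace A = 0 := by
    show ∑ a, A a a = 0
    simp [A, hirr]
  obtain ⟨k, hk⟩ := Nat.exists_eq_add_of_le hr.two_le
  have hAr : A ^ r = J := (congrArg (A ^ ·) (hk.trans (add_comm 2 k))).trans (hpow k)
  rw [hAr, hA0, zero_pow hr.ne_zero] at htr
  replace htr : ∑ a : V, J a a = 0 := htr
  simp [J] at htr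
  exact zero_ne_one (htr.symm.trans hn)

end Cfsg.Agent.Mitchell
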