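import Cfsg.Agent.Lib.Mitchell.Free.Frame
import Cfsg.Agent.Lib.Mitchell.Free.Friend

/-!
# No homologies of order at least three

* `det_sq` : over `S₄` with scalars `±1` all determinants are `±1`
* `Ctx.pair_frame` : a non-commuting pair of homologies gives a polyhedral involution
* `Ctx.no_big_poly`, `Ctx.no_big` : no homology of order at least three
-/

set_option autoImplicit false
set_option linter.unusedSectionVars false

namespace Cfsg.Agent.Mitchell

open Cfsg.Agent.SL3Max Cfsg.Agent.Transvect Matrix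

universe u

variable {F : Type u} [Field F]

/-- Over `S₄` with scalars `±1` all determinants are `±1`. -/
lemma det_sq {M : Subgroup (GL (Fin 2) F)}
    (hs : ∀ x ∈ M, Sc x → (x : Matrix (Fin 2) (Fin 2) F) = 1 ∨ (x : Matrix (Fin 2) (Fin 2) F) = -1)
    (e : img M ≃* Equiv.Perm (Fin 4)) {x : GL (Fin 2) F} (hx : x ∈ M) :
    (x : Matrix (Fin 2) (Fin 2) F).det ^ 2 = 1 := by
  have key : ∀ a : Equiv.Perm (Fin 4), ∃ b c, b * b = 1 ∧ c * c = 1 ∧ a = b * c := by decide +kernel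
  obtain ⟨b, c, hb, hc, habc⟩ := key (e ⟨ProjGenLinGroup.mk x, Subgroup.mem_map_of_mem _ hx⟩)
  obtain ⟨g, hg, hgb⟩ := (e.symm b).2
  obtain ⟨k, hk, hkc⟩ := (e.symm c).2
  have hsq : ∀ {g : GL (Fin 2) F} {b : Equiv.Perm (Fin 4)}, g ∈ M → b * b = 1 →
      ProjGenLinGroup.mk g = (e.symm b : ProjGenLinGroup (Fin 2) F) →
      (g : Matrix (Fin 2) (Fin 2) F).det ^ 2 = 1 := by
    intro g b hg hb hgb
    have h : Sc (g * g) := sc_iff_mk.2 (by
      rw [map_mul, hgb, ← Subgroup.coe_mul, ← map_mul, hb, map_one, OneMemClass.coe_one])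
    rw [pow_two, ← det_mul, ← Units.val_mul]
    rcases hs _ (mul_mem hg hg) h with h | h <;> rw [h, det_fin_two] <;> simp
  have hsc : Sc (x⁻¹ * (g * k)) := sc_iff_mk.2 (by
    rw [map_mul, map_mul, map_inv, hgb, hkc, ← Subgroup.coe_mul, ← map_mul, ← habc, e.symm_apply_apply,
      inv_mul_cancel])
  have h1 : (x : Matrix (Fin 2) (Fin 2) F).det *
      ((x⁻¹ * (g * k) : GL (Fin 2) F) : Matrix (Fin 2) (Fin 2) F).det =
      (g : Matrix (Fin 2) (Fin 2) F).det * (k : Matrix (Fin 2) (Fin 2) F).det := by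
    rw [← det_mul, ← det_mul, ← Units.val_mul, mul_inv_cancel_left, Units.val_mul]
  have hd : ((x⁻¹ * (g * k) : GL (Fin 2) F) : Matrix (Fin 2) (Fin 2) F).det = 1 := by
    rcases hs _ (mul_mem (inv_mem hx) (mul_mem hg hk)) hsc with h | h <;> rw [h, det_fin_two] <;> simp
  rw [hd, mul_one] at h1
  rw [h1, mul_pow, hsq hg hb hgb, hsq hk hc hkc, one_mul]

lemma sc_tri {z : GL (Fin 2) F} {l β : F} (hz : (z : Matrix (Fin 2) (Fin 2) F) = !![l, β; 0, 1])
    (hl : l ^ 2 ≠ 1) : ¬ Sc (z * z) := by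
  rintro ⟨k, hk⟩
  rw [Units.val_mul, hz, Matrix.mul_fin_two] at hk
  have e0 := congrFun (congrFun hk 0) 0
  have e1 := congrFun (congrFun hk 1) 1
  simp at e0 e1
  exact hl (by linear_combination e0 - e1)

lemma sc_tri' {z : GL (Fin 2) F} {l β : F} (hz : (z : Matrix (Fin 2) (Fin 2) F) = !![1, 0; β, l])
    (hl : l ^ 2 ≠ 1) : ¬ Sc (z * z) := by
  rintro ⟨k, hk⟩
  rw [Units.val_mul, hz, Matrix.mul_fin_two] at hk
  have e0 := congrFun (congrFun hk 0) 0
  have e1 := congrFun (congrFun hk 1) 1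
  simp at e0 e1
  exact hl (by linear_combination e1 - e0)

variable {G : Subgroup (GL (Fin 3) F)}

/-- The frame of a pair of homologies. -/
lemma exists_pair_frame {x y : GL (Fin 3) F} {a b : F} {c c' : V3 F} {φ φ' : D3 F}
    (C : Ctx G) (hx : x ∈ G) (hy : y ∈ G) (hX : BH x b c φ) (hY : BH y b c' φ')
    (hφc : φ c = a - b) (hφc' : φ' c' = a - b) (ha : a ≠ 0) (hb : b ≠ 0) (hab : a ^ 2 ≠ b ^ 2)
    (hne : x * y ≠ y * x) :
    ∃ R : GL (Fin 3) F, app R (Pi.single 0 1) = c ∧ app R (Pi.single 1 1) = c' ∧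
      φ (app R (Pi.single 2 1)) = 0 ∧ φ' (app R (Pi.single 2 1)) = 0 ∧
      axisP R c = 0 ∧ axisP R c' = 0 := by
  obtain ⟨hli, p, hp0, hp, hp', hns⟩ := exists_meet C.efree hx hy hX hY hφc hφc' ha hb hab hne
  have h3 : LinearIndependent F ![c, c', p] := by
    rw [Fintype.linearIndependent_iff]
    intro g hg
    simp only [Fin.sum_univ_three, cons_val_zero, cons_val_one, cons_val] at hg
    have hg2 : g 2 = 0 := by
      by_contra h
      apply hns
      rw [Submodule.mem_span_pair]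
      refine ⟨-(g 0 / g 2), -(g 1 / g 2), ?_⟩
      have : p = (g 2)⁻¹ • ((g 0 • c + g 1 • c' + g 2 • p) - (g 0 • c + g 1 • c')) := by
        rw [add_sub_cancel_left, inv_smul_smul₀ h]
      rw [this, hg, zero_sub]
      module
    rw [hg2, zero_smul, add_zero] at hg
    obtain ⟨h0, h1⟩ := LinearIndependent.pair_iff.1 hli _ _ hg
    intro i
    fin_cases i <;> assumption
  obtain ⟨R, hR⟩ := exists_gl h3
  refine ⟨R, hR 0, hR 1, ?_, ?_, ?_, ?_⟩
  · rw [hR 2]; exact hp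
  · rw [hR 2]; exact hp'
  · rw [show c = app R (Pi.single 0 1) from (hR 0).symm]; exact axisP_col R (by decide)
  · rw [show c' = app R (Pi.single 1 1) from (hR 1).symm]; exact axisP_col R (by decide)

namespace Ctx

variable (C : Ctx G)
include C

/-- A non-commuting pair of homologies gives a polyhedral involution of `G`. -/
theorem pair_frame [Finite F] {x y : GL (Fin 3) F} {a b : F} {c c' : V3 F} {φ φ' : D3 F}
    (hx : x ∈ G) (hy : y ∈ G) (hX : BH x b c φ) (hY : BH y b c' φ')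
    (hφc : φ c = a - b) (hφc' : φ' c' = a - b) (ha : a ≠ 0) (hb : b ≠ 0) (hab : a ^ 2 ≠ b ^ 2)
    (hne : x * y ≠ y * x) :
    ∃ R : GL (Fin 3) F, tP R ∈ G ∧ app R (Pi.single 0 1) = c ∧ app R (Pi.single 1 1) = c' ∧
      φ (app R (Pi.single 2 1)) = 0 ∧ φ' (app R (Pi.single 2 1)) = 0 ∧
      Poly (rho C.two_ne G R).range ∧
      ∃ hxD : x ∈ DP G R, (rho C.two_ne G R ⟨x, hxD⟩ : Matrix (Fin 2) (Fin 2) F) =
        !![a / b, φ c' / b; 0, 1] := by
  obtain ⟨R, h0, h1, hp, hp', hc, hc'⟩ := exists_pair_frame C hx hy hX hY hφc hφc' ha hb hab hne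
  have hxD : x ∈ DP G R := mem_DP_frame hx hX hp hc
  have hyD : y ∈ DP G R := mem_DP_frame hy hY hp' hc'
  obtain ⟨ex, ecx⟩ := rho_entries C.two_ne (⟨x, hxD⟩ : DP G R) hX hb h0 hp
  rw [hφc, add_sub_cancel, h1] at ex
  have hl : (a / b) ^ 2 ≠ 1 := fun h => hab (by field_simp at h; linear_combination h)
  set X := rho C.two_ne G R ⟨x, hxD⟩ with hXdef
  set Y := rho C.two_ne G R ⟨y, hyD⟩ with hYdef
  have hne' : X * Y ≠ Y * X := by
    intro h
    apply hne
    have := rho_chi_ext C.two_ne G R (g := (⟨x, hxD⟩ : DP G R) * ⟨y, hyD⟩)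
      (h := ⟨y, hyD⟩ * ⟨x, hxD⟩) (by rw [map_mul, map_mul]; exact h)
      (by rw [map_mul, map_mul, mul_comm])
    exact congrArg Subtype.val this
  have hXX : ¬ Sc (X * X) := sc_tri ex hl
  have hYY : ¬ Sc (Y * Y) := by
    obtain ⟨ey, -⟩ := rho_entries' C.two_ne (⟨y, hyD⟩ : DP G R) hY hb h1 hp'
    rw [hφc', add_sub_cancel, h0] at ey
    exact sc_tri' ey hl
  refine ⟨R, ?_, h0, h1, hp, hp', ⟨X, ⟨_, rfl⟩, Y, ⟨_, rfl⟩, hXX, hYY, hne'⟩, hxD, ex⟩
  haveI : Fact (ringChar F).Prime := ⟨CharP.char_is_prime F (ringChar F)⟩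
  obtain ⟨g, ⟨g', rfl⟩, k, ⟨k', rfl⟩, hgk⟩ := exists_anti (ringChar F) C.two_ne
    (not_dvd_card_range C.two_ne (G := G) (P := R) C.efree (ringChar F))
    ⟨X, ⟨_, rfl⟩, Y, ⟨_, rfl⟩, hXX, hYY, hne'⟩
  exact tP_mem_of_commutator C.two_ne hgk

end Ctx

end Cfsg.Agent.Mitchell
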