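import Cfsg.Agent.Lib.Mitchell.Free.Homology

/-!
# The centraliser of an involutory homology

* `d0` : `diag(-1,-1,1)`; `tP P` : its conjugate by `P`
* `blockHom` : the action of the centraliser of `d0` on the axis, scaled to fix the centre
* `rho G P`, `chi G P` : the same for the elements of `G` commuting with `tP P`
* `exists_frame`, `exists_gl` : frames
-/

set_option autoImplicit false
set_option linter.unusedSectionVars false

namespace Cfsg.Agent.Mitchell

open Cfsg.Agent.SL3Max Cfsg.Agent.Transvect Module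

variable {F : Type*} [Field F]

/-- A matrix with prescribed independent columns. -/
lemma exists_gl {v : Fin 3 → V3 F} (hv : LinearIndependent F v) :
    ∃ P : GL (Fin 3) F, ∀ i, app P (Pi.single i 1) = v i := by
  have hu : IsUnit (Matrix.of fun i j => v j i) := Matrix.linearIndependent_cols_iff_isUnit.1 hv
  refine ⟨hu.unit, fun i => ?_⟩
  rw [app_apply, IsUnit.unit_spec, Matrix.mulVec_single_one]
  rfl

/-- The standard axis, scaled. -/
def phi0 : D3 F := (2 : F) • LinearMap.proj 2

/-- `diag(-1,-1,1)`. -/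
noncomputable def d0 : GL (Fin 3) F := hml (Pi.single 2 1) phi0

lemma phi0_single : (phi0 : D3 F) (Pi.single 2 1) = 2 := by simp [phi0]

lemma d0_apply (x : V3 F) : app (d0 : GL (Fin 3) F) x = ![-x 0, -x 1, x 2] := by
  rw [d0, hml_apply phi0_single]
  funext i
  fin_cases i <;> simp [phi0]
  ring

/-- An involutory homology in the coordinates `P`. -/
noncomputable def tP (P : GL (Fin 3) F) : GL (Fin 3) F := P * d0 * P⁻¹

lemma tP_eq_hml (P : GL (Fin 3) F) :
    tP P = hml (app P (Pi.single 2 1)) (phi0 ∘ₗ (app P⁻¹).toLinearMap) := hml_conj phi0_single P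

lemma tP_mem_sl (P : GL (Fin 3) F) : tP P ∈ Cfsg.Geo.specialLinear (Fin 3) F := by
  rw [tP_eq_hml]; exact hml_mem_sl _ _

lemma tP_mul_self (P : GL (Fin 3) F) : tP P * tP P = 1 := by
  have h : (phi0 ∘ₗ (app P⁻¹).toLinearMap) (app P (Pi.single 2 1)) = 2 := by
    show phi0 (app P⁻¹ (app P _)) = 2
    rw [app_inv_app, phi0_single]
  rw [tP_eq_hml]
  nth_rewrite 1 [← hml_inv h]
  exact inv_mul_cancel _

/-- Every involutory homology is some `tP P`. -/
lemma exists_frame (h2 : (2 : F) ≠ 0) {c : V3 F} {φ : D3 F} (h : φ c = 2) :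
    ∃ P : GL (Fin 3) F, tP P = hml c φ := by
  have hφ : φ ≠ 0 := fun e => h2 (by rw [← h, e, LinearMap.zero_apply])
  have hker : finrank F (LinearMap.ker φ) = 2 := by
    have h3 := LinearMap.finrank_range_add_finrank_ker φ
    rw [LinearMap.range_eq_top.2 (LinearMap.surjective hφ), finrank_top, finrank_self] at h3
    rw [show finrank F (V3 F) = 3 by simp] at h3
    omega
  let b := Module.finBasisOfFinrankEq F (LinearMap.ker φ) hker
  have hv : LinearIndependent F ![(b 0 : V3 F), b 1, c] := by
    rw [Fintype.linearIndependent_iff]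
    intro g hg
    simp only [Fin.sum_univ_three, Matrix.cons_val_zero, Matrix.cons_val_one, Matrix.cons_val] at hg
    have hg2 : g 2 = 0 := by
      have := congrArg φ hg
      simp [map_add, map_smul, h, LinearMap.mem_ker.1 (b 0).2, LinearMap.mem_ker.1 (b 1).2] at this
      exact this.resolve_right h2
    have h01 : g 0 • b 0 + g 1 • b 1 = 0 := by
      apply Subtype.ext
      simpa [hg2] using hg
    have := Fintype.linearIndependent_iff.1 b.linearIndependent ![g 0, g 1]
      (by simpa [Fin.sum_univ_two] using h01)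
    intro i
    fin_cases i
    · exact this 0
    · exact this 1
    · exact hg2
  obtain ⟨P, hP⟩ := exists_gl hv
  refine ⟨P, ?_⟩
  have h0 : app P (Pi.single 2 1) = c := hP 2
  rw [tP_eq_hml, h0]
  congr 1
  have hk : φ ∘ₗ (app P).toLinearMap = phi0 := by
    refine LinearMap.pi_ext' fun i => LinearMap.ext_ring ?_
    show φ (app P (Pi.single i 1)) = phi0 (Pi.single i 1)
    rw [hP]
    fin_cases i
    · simp [phi0, LinearMap.mem_ker.1 (b 0).2]
    · simp [phi0, LinearMap.mem_ker.1 (b 1).2]
    · simp [phi0, h]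
  rw [← hk]
  refine LinearMap.ext fun x => ?_
  show φ (app P (app P⁻¹ x)) = φ x
  rw [app_app_inv]

/-! ### the centraliser of `d0` -/

lemma d0_val : ((d0 : GL (Fin 3) F) : Matrix (Fin 3) (Fin 3) F) = Matrix.diagonal ![-1, -1, 1] :=
  Matrix.ext_of_mulVec_single fun i => by
    rw [← app_apply, d0_apply, Matrix.diagonal_mulVec_single]
    fin_cases i <;> (funext j; fin_cases j <;> simp)

lemma entries (h2 : (2 : F) ≠ 0) {g : GL (Fin 3) F}
    (hg : g ∈ Subgroup.centralizer ({d0} : Set (GL (Fin 3) F))) :
    g.1 0 2 = 0 ∧ g.1 1 2 = 0 ∧ g.1 2 0 = 0 ∧ g.1 2 1 = 0 := by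
  have h := congrArg Units.val (Subgroup.mem_centralizer_singleton_iff.1 hg)
  rw [Units.val_mul, Units.val_mul, d0_val] at h
  have key : ∀ i j, (![-1, -1, 1] : Fin 3 → F) i * g.1 i j = g.1 i j * (![-1, -1, 1] : Fin 3 → F) j := fun i j => by
    have := congrFun (congrFun h i) j
    rwa [Matrix.diagonal_mul, Matrix.mul_diagonal, eq_comm] at this
  refine ⟨?_, ?_, ?_, ?_⟩
  · have := key 0 2; simp at this; exact mul_left_cancel₀ h2 (by linear_combination -this)
  · have := key 1 2; simp at this; exact mul_left_cancel₀ h2 (by linear_combination -this)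
  · have := key 2 0; simp at this; exact mul_left_cancel₀ h2 (by linear_combination this)
  · have := key 2 1; simp at this; exact mul_left_cancel₀ h2 (by linear_combination this)

variable (h2 : (2 : F) ≠ 0)

/-- The eigenvalue on the centre. -/
noncomputable def chiHom : Subgroup.centralizer ({d0} : Set (GL (Fin 3) F)) →* F where
  toFun g := g.1.1 2 2
  map_one' := by simp
  map_mul' g h := by
    obtain ⟨-, -, a, b⟩ := entries h2 g.2
    simp [Matrix.mul_apply, Fin.sum_univ_three, a, b]

lemma chiHom_ne (g : Subgroup.centralizer ({d0} : Set (GL (Fin 3) F))) : chiHom h2 g ≠ 0 :=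
  (Group.isUnit g).map (chiHom h2) |>.ne_zero

/-- The upper block, scaled. -/
noncomputable def blockHom :
    Subgroup.centralizer ({d0} : Set (GL (Fin 3) F)) →* GL (Fin 2) F :=
  MonoidHom.toHomUnits
    { toFun := fun g => (chiHom h2 g)⁻¹ • g.1.1.submatrix (Fin.castLE (by omega)) (Fin.castLE (by omega))
      map_one' := by
        rw [map_one]
        ext i j
        fin_cases i <;> fin_cases j <;> simp
      map_mul' := fun g h => by
        obtain ⟨a, b, -, -⟩ := entries h2 g.2
        rw [map_mul]
        ext i j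
        fin_cases i <;> fin_cases j <;>
          simp [Matrix.mul_apply, Fin.sum_univ_three, Fin.sum_univ_two, a, b] <;> ring }

lemma blockHom_apply (g : Subgroup.centralizer ({d0} : Set (GL (Fin 3) F))) (i j : Fin 2) :
    (blockHom h2 g).1 i j =
      (chiHom h2 g)⁻¹ * g.1.1 (Fin.castLE (by omega) i) (Fin.castLE (by omega) j) := rfl

lemma block_ext {g h : Subgroup.centralizer ({d0} : Set (GL (Fin 3) F))}
    (hb : blockHom h2 g = blockHom h2 h) (hc : chiHom h2 g = chiHom h2 h) : g = h := by
  obtain ⟨a, b, c, d⟩ := entries h2 g.2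
  obtain ⟨a', b', c', d'⟩ := entries h2 h.2
  have key : ∀ i j : Fin 2, g.1.1 (Fin.castLE (by omega) i) (Fin.castLE (by omega) j) =
      h.1.1 (Fin.castLE (by omega) i) (Fin.castLE (by omega) j) := fun i j => by
    have := congrArg (fun m : GL (Fin 2) F => m.1 i j) hb
    simp only [blockHom_apply, hc] at this
    exact mul_left_cancel₀ (inv_ne_zero (chiHom_ne h2 h)) this
  refine Subtype.ext (Units.ext (Matrix.ext fun i j => ?_))
  fin_cases i <;> fin_cases j
  exacts [key 0 0, key 0 1, a.trans a'.symm, key 1 0, key 1 1, b.trans b'.symm, c.trans c'.symm,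
    d.trans d'.symm, hc]

/-- The elements of `G` commuting with `tP P`. -/
noncomputable def DP (G : Subgroup (GL (Fin 3) F)) (P : GL (Fin 3) F) : Subgroup (GL (Fin 3) F) :=
  G ⊓ Subgroup.centralizer {tP P}

variable (G : Subgroup (GL (Fin 3) F)) (P : GL (Fin 3) F)

lemma mem_DP {g : GL (Fin 3) F} : g ∈ DP G P ↔ g ∈ G ∧ g * tP P = tP P * g :=
  and_congr Iff.rfl Subgroup.mem_centralizer_singleton_iff

/-- `DP G P` in the coordinates `P`. -/
noncomputable def toStd : DP G P →* Subgroup.centralizer ({d0} : Set (GL (Fin 3) F)) :=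
  ((MulAut.conj P⁻¹).toMonoidHom.comp (DP G P).subtype).codRestrict _ fun g =>
    Subgroup.mem_centralizer_singleton_iff.2 (by
      have h := congrArg (fun z => P⁻¹ * z * P) ((mem_DP G P).1 g.2).2
      simp only [tP] at h
      simpa [MulAut.conj_apply, mul_assoc] using h)

lemma toStd_apply (g : DP G P) : (toStd G P g : GL (Fin 3) F) = P⁻¹ * g * P := by
  show MulAut.conj P⁻¹ (g : GL (Fin 3) F) = _
  rw [MulAut.conj_apply, inv_inv]

lemma toStd_injective : Function.Injective (toStd G P) := fun a b h => Subtype.ext (by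
  have := congrArg Subtype.val h
  rwa [toStd_apply, toStd_apply, mul_left_inj, mul_right_inj] at this)

/-- The action on the axis, scaled. -/
noncomputable def rho : DP G P →* GL (Fin 2) F := (blockHom h2).comp (toStd G P)

/-- The eigenvalue on the centre. -/
noncomputable def chi : DP G P →* F := (chiHom h2).comp (toStd G P)

lemma rho_chi_ext {g h : DP G P} (hr : rho h2 G P g = rho h2 G P h)
    (hc : chi h2 G P g = chi h2 G P h) : g = h := toStd_injective G P (block_ext h2 hr hc)

end Cfsg.Agent.Mitchell
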