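import Cfsg.Agent.Lib.Mitchell.Free.Setup

/-!
# Frames of pairs of homologies

* `comm_criterion`, `zero_of_comm`, `invol_general` : commuting and general position
* `mem_DP_frame`, `rho_entries` : a homology in the frame `(c, c', p)` of a pair
-/

set_option autoImplicit false
set_option linter.unusedSectionVars false

namespace Cfsg.Agent.Mitchell

open Cfsg.Agent.SL3Max Cfsg.Agent.Transvect

variable {F : Type*} [Field F]

/-- The scaled axis functional of `tP P`. -/
noncomputable def axisP (P : GL (Fin 3) F) : D3 F := phi0 ∘ₗ (app P⁻¹).toLinearMap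

lemma axisP_centre (P : GL (Fin 3) F) : axisP P (app P (Pi.single 2 1)) = 2 := by
  show phi0 (app P⁻¹ (app P _)) = 2
  rw [app_inv_app, phi0_single]

lemma axisP_col (P : GL (Fin 3) F) {i : Fin 3} (hi : i ≠ 2) : axisP P (app P (Pi.single i 1)) = 0 := by
  show phi0 (app P⁻¹ (app P _)) = 0
  rw [app_inv_app]
  simp [phi0, hi]

lemma bh_tP (P : GL (Fin 3) F) : BH (tP P) (-1) (app P (Pi.single 2 1)) (axisP P) := fun x => by
  rw [tP_eq_hml, hml_apply (φ := phi0 ∘ₗ (app P⁻¹).toLinearMap) (axisP_centre P), neg_one_smul]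
  rfl

lemma comm_criterion {x y : GL (Fin 3) F} {b b' : F} {c c' : V3 F} {φ φ' : D3 F}
    (hX : BH x b c φ) (hY : BH y b' c' φ') :
    x * y = y * x ↔ ∀ v, (φ' v * φ c') • c = (φ v * φ' c) • c' := by
  have e : ∀ v, app (x * y) v - app (y * x) v = (φ' v * φ c') • c - (φ v * φ' c) • c' := fun v => by
    rw [app_mul, app_mul, hY v, hX v, hX, hY]
    simp only [map_add, map_smul, smul_eq_mul]
    module
  constructor
  · intro h v
    rw [← sub_eq_zero, ← e, h, sub_self]
  · intro h
    exact gl_ext fun v => sub_eq_zero.1 (by rw [e, h, sub_self])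

lemma zero_of_comm {x y : GL (Fin 3) F} {b b' : F} {c c' : V3 F} {φ φ' : D3 F}
    (hX : BH x b c φ) (hY : BH y b' c' φ') (hl : LinearIndependent F ![c, c']) (hφ : φ ≠ 0)
    (hφ' : φ' ≠ 0) (h : x * y = y * x) : φ c' = 0 ∧ φ' c = 0 := by
  have hv : ∀ v, φ' v * φ c' = 0 ∧ φ v * φ' c = 0 := fun v => by
    have := LinearIndependent.pair_iff.1 hl (φ' v * φ c') (-(φ v * φ' c))
      (by rw [neg_smul, (comm_criterion hX hY).1 h v, add_neg_cancel])
    exact ⟨this.1, neg_eq_zero.1 this.2⟩
  obtain ⟨v, hv1⟩ := DFunLike.exists_ne hφ'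
  obtain ⟨w, hw1⟩ := DFunLike.exists_ne hφ
  exact ⟨(mul_eq_zero.1 (hv v).1).resolve_left hv1, (mul_eq_zero.1 (hv w).2).resolve_left hw1⟩

/-- Distinct involutory homologies have independent centres and independent axes. -/
lemma invol_general (h2 : (2 : F) ≠ 0) {G : Subgroup (GL (Fin 3) F)} (hE : ElationFree G)
    {P Q : GL (Fin 3) F} (hP : tP P ∈ G) (hQ : tP Q ∈ G) (hne : tP P ≠ tP Q) :
    LinearIndependent F ![app P (Pi.single 2 1), app Q (Pi.single 2 1)] ∧
      ∀ μ : F, μ • axisP P ≠ axisP Q := by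
  have hmem := mul_mem hP hQ
  have heq : tP P * tP Q = 1 → False := fun h => hne (by
    calc tP P = tP P * (tP Q * tP Q) := by rw [tP_mul_self, mul_one]
      _ = tP Q := by rw [← mul_assoc, h, one_mul])
  constructor
  · rw [LinearIndependent.pair_iff' (centre_ne P)]
    intro μ hμ
    have hQ' : BH (tP Q) (-1) (app P (Pi.single 2 1)) (μ • axisP Q) := BH.smul (hμ ▸ bh_tP Q)
    obtain ⟨χ, h1, e1⟩ := (bh_tP P).mul hQ'
    have hc : μ * axisP Q (app P (Pi.single 2 1)) = 2 := by
      have := axisP_centre Q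
      rwa [← hμ, map_smul, smul_eq_mul] at this
    rw [neg_one_mul, neg_neg] at h1 e1
    rw [axisP_centre, LinearMap.smul_apply, smul_eq_mul, hc] at e1
    exact heq (efree_bh hE hmem h1 (by linear_combination e1))
  · intro μ hμ
    have hQ' : BH (tP Q) (-1) (μ • app Q (Pi.single 2 1)) (axisP P) := fun v => by
      rw [bh_tP Q v, ← hμ, LinearMap.smul_apply, smul_eq_mul, smul_smul, mul_comm]
    obtain ⟨e, h1, e1⟩ := (bh_tP P).mulAxis hQ'
    have hc : axisP P (μ • app Q (Pi.single 2 1)) = 2 := by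
      rw [map_smul, ← LinearMap.smul_apply, hμ, axisP_centre]
    rw [neg_one_mul, neg_neg] at h1 e1
    rw [axisP_centre, hc] at e1
    exact heq (efree_bh hE hmem h1 (by linear_combination e1))

lemma axisP_ne (h2 : (2 : F) ≠ 0) (P : GL (Fin 3) F) : axisP P ≠ 0 := fun h => by
  have := axisP_centre P
  rw [h, LinearMap.zero_apply] at this
  exact h2 this.symm

variable (h2 : (2 : F) ≠ 0) {G : Subgroup (GL (Fin 3) F)} {R : GL (Fin 3) F} {x : GL (Fin 3) F}
  {b : F} {c : V3 F} {φ : D3 F}

/-- A homology with centre in the axis plane of `tP R` and axis through its centre. -/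
lemma mem_DP_frame (hx : x ∈ G) (hX : BH x b c φ) (hp : φ (app R (Pi.single 2 1)) = 0)
    (hc : axisP R c = 0) : x ∈ DP G R := by
  refine (mem_DP G R).2 ⟨hx, (comm_criterion hX (bh_tP R)).2 fun v => ?_⟩
  rw [hp, hc, mul_zero, mul_zero, zero_smul, zero_smul]

lemma toStd_col (g : DP G R) (i j : Fin 3) :
    (toStd G R g : GL (Fin 3) F).1 i j = app R⁻¹ (app (g : GL (Fin 3) F) (app R (Pi.single j 1))) i := by
  rw [← app_mul, ← app_mul, ← toStd_apply, app_apply, Matrix.mulVec_single_one]
  rfl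

include h2 in
/-- The matrix of a homology with centre the first column of the frame. -/
lemma rho_entries (g : DP G R) (hX : BH (g : GL (Fin 3) F) b c φ) (hb : b ≠ 0)
    (h0 : app R (Pi.single 0 1) = c) (hp : φ (app R (Pi.single 2 1)) = 0) :
    (rho h2 G R g : Matrix (Fin 2) (Fin 2) F) =
      !![(b + φ c) / b, φ (app R (Pi.single 1 1)) / b; 0, 1] ∧ chi h2 G R g = b := by
  have hi : app R⁻¹ c = Pi.single 0 1 := by rw [← h0, app_inv_app]
  have h22 : (toStd G R g : GL (Fin 3) F).1 2 2 = b := by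
    rw [toStd_col, hX.axis hp, map_smul, app_inv_app]
    simp
  refine ⟨?_, h22⟩
  ext i j
  rw [show rho h2 G R g = blockHom h2 (toStd G R g) from rfl, blockHom_apply]
  show ((toStd G R g : GL (Fin 3) F).1 2 2)⁻¹ * _ = _
  rw [h22, toStd_col, hX, map_add, map_smul, map_smul, app_inv_app, hi]
  fin_cases i <;> fin_cases j <;> simp [h0] <;> field_simp

include h2 in
/-- The matrix of a homology with centre the second column of the frame. -/
lemma rho_entries' (g : DP G R) (hX : BH (g : GL (Fin 3) F) b c φ) (hb : b ≠ 0)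
    (h0 : app R (Pi.single 1 1) = c) (hp : φ (app R (Pi.single 2 1)) = 0) :
    (rho h2 G R g : Matrix (Fin 2) (Fin 2) F) =
      !![1, 0; φ (app R (Pi.single 0 1)) / b, (b + φ c) / b] ∧ chi h2 G R g = b := by
  have hi : app R⁻¹ c = Pi.single 1 1 := by rw [← h0, app_inv_app]
  have h22 : (toStd G R g : GL (Fin 3) F).1 2 2 = b := by
    rw [toStd_col, hX.axis hp, map_smul, app_inv_app]
    simp
  refine ⟨?_, h22⟩
  ext i j
  rw [show rho h2 G R g = blockHom h2 (toStd G R g) from rfl, blockHom_apply]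
  show ((toStd G R g : GL (Fin 3) F).1 2 2)⁻¹ * _ = _
  rw [h22, toStd_col, hX, map_add, map_smul, map_smul, app_inv_app, hi]
  fin_cases i <;> fin_cases j <;> simp [h0] <;> field_simp

end Cfsg.Agent.Mitchell
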