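import Cfsg.Agent.Lib.Mitchell.Defs

/-!
# Pairs of homologies in a group without transvections

* `BH g b c φ` : `g x = b • x + φ x • c`
* `exists_meet` : two homologies of order at least three which do not commute have independent centres,
  independent axes, and the common point of the axes is off the line of the centres
-/

set_option autoImplicit false
set_option linter.unusedSectionVars false

namespace Cfsg.Agent.Mitchell

open Cfsg.Agent.SL3Max Cfsg.Agent.Transvect Module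

variable {F : Type*} [Field F]

/-- `g` is `x ↦ b x + φ(x) c`. -/
def BH (g : GL (Fin 3) F) (b : F) (c : V3 F) (φ : D3 F) : Prop := ∀ x, app g x = b • x + φ x • c

lemma app_mul (g h : GL (Fin 3) F) (x : V3 F) : app (g * h) x = app g (app h x) := by
  rw [map_mul, LinearEquiv.mul_apply]

lemma app_one' (x : V3 F) : app (1 : GL (Fin 3) F) x = x := by rw [map_one]; rfl

namespace BH

variable {g h : GL (Fin 3) F} {a b b' : F} {c d : V3 F} {φ ψ : D3 F}

lemma centre (hg : BH g b c φ) : app g c = (b + φ c) • c := by rw [hg, add_smul]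

lemma axis (hg : BH g b c φ) {x : V3 F} (hx : φ x = 0) : app g x = b • x := by
  rw [hg, hx, zero_smul, add_zero]

lemma ext (hg : BH g b c φ) (hh : BH h b c φ) : g = h := gl_ext fun x => by rw [hg, hh]

lemma conj (hg : BH g b c φ) (k : GL (Fin 3) F) :
    BH (k * g * k⁻¹) b (app k c) (φ ∘ₗ (app k⁻¹).toLinearMap) := fun x => by
  rw [app_mul, app_mul, hg, map_add, map_smul, map_smul, app_app_inv]
  rfl

lemma smul (hg : BH g b (a • c) φ) : BH g b c (a • φ) := fun x => by
  rw [hg, LinearMap.smul_apply, smul_smul, smul_eq_mul, mul_comm]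

lemma inv (hg : BH g b c φ) (hb : b ≠ 0) (ha : b + φ c ≠ 0) :
    BH g⁻¹ b⁻¹ c (-(b * (b + φ c))⁻¹ • φ) := fun x => by
  set k := b * (b + φ c) with hk
  have hk0 : k ≠ 0 := mul_ne_zero hb ha
  have h : app g (b⁻¹ • x + ((-k⁻¹ • φ) x) • c) = x := by
    rw [hg, map_add, map_smul, map_smul, LinearMap.smul_apply, smul_eq_mul, smul_eq_mul, smul_eq_mul]
    rw [smul_add, smul_smul, mul_inv_cancel₀ hb, one_smul, smul_smul, add_assoc, ← add_smul]
    have : b * (-k⁻¹ * φ x) + (b⁻¹ * φ x + -k⁻¹ * φ x * φ c) = 0 := by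
      have hbb : b⁻¹ = (b + φ c) * k⁻¹ := by rw [hk]; field_simp
      rw [hbb]; ring
    rw [this, zero_smul, add_zero]
  conv_lhs => rw [← h]
  rw [app_inv_app]

lemma det_smul (hg : BH g b c φ) {x : V3 F} (hx : φ x = 0) (hx0 : x ≠ 0) : b ≠ 0 := by
  rintro rfl
  rw [BH] at hg
  have := hg x
  rw [zero_smul, hx, zero_smul, add_zero] at this
  exact hx0 ((app g).map_eq_zero_iff.1 this)

lemma mul (hg : BH g b c φ) (hh : BH h b' c ψ) :
    ∃ χ : D3 F, BH (g * h) (b * b') c χ ∧ b * b' + χ c = (b + φ c) * (b' + ψ c) := by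
  refine ⟨b' • φ + (b + φ c) • ψ, fun x => ?_, ?_⟩
  · rw [app_mul, hh, map_add, map_smul, map_smul, hg, hg.centre]
    simp only [LinearMap.add_apply, LinearMap.smul_apply, smul_eq_mul]
    module
  · simp only [LinearMap.add_apply, LinearMap.smul_apply, smul_eq_mul]
    ring

lemma mulAxis (hg : BH g b c φ) (hh : BH h b' d φ) :
    ∃ e : V3 F, BH (g * h) (b * b') e φ ∧ b * b' + φ e = (b + φ c) * (b' + φ d) := by
  refine ⟨(b' + φ d) • c + b • d, fun x => ?_, ?_⟩
  · rw [app_mul, hh, map_add, map_smul, map_smul, hg, hg]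
    module
  · simp only [map_add, map_smul, smul_eq_mul]
    ring

lemma eq_tv (hg : BH g 1 c φ) (h : φ c = 0) : g = tv c φ :=
  gl_ext fun x => by rw [hg, tv_apply h, one_smul]

end BH

/-- An element of the form `x + ψ(x) c`, `ψ(c) = 0`, is trivial. -/
lemma efree_bh {G : Subgroup (GL (Fin 3) F)} (hE : ElationFree G) {g : GL (Fin 3) F} (hg : g ∈ G)
    {c : V3 F} {ψ : D3 F} (h : BH g 1 c ψ) (h0 : ψ c = 0) : g = 1 := by
  rw [h.eq_tv h0] at hg ⊢
  by_contra hne
  refine hE c ⟨fun hc => hne ?_, ψ, fun hψ => hne ?_, h0, hg⟩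
  · subst hc; exact gl_ext fun x => by rw [tv_apply h0, app_one', smul_zero, add_zero]
  · rw [hψ, tv_zero]

/-- Two conjugate homologies of order at least three which do not commute are in general position. -/
theorem exists_meet {G : Subgroup (GL (Fin 3) F)} (hE : ElationFree G) {x y : GL (Fin 3) F}
    (hx : x ∈ G) (hy : y ∈ G) {a b : F} {c c' : V3 F} {φ φ' : D3 F} (hX : BH x b c φ)
    (hY : BH y b c' φ') (hφc : φ c = a - b) (hφc' : φ' c' = a - b) (ha : a ≠ 0) (hb : b ≠ 0)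
    (hab : a ^ 2 ≠ b ^ 2) (hne : x * y ≠ y * x) :
    LinearIndependent F ![c, c'] ∧
      ∃ p : V3 F, p ≠ 0 ∧ φ p = 0 ∧ φ' p = 0 ∧ p ∉ Submodule.span F {c, c'} := by
  have hd : a - b ≠ 0 := fun h => hab (by rw [sub_eq_zero.1 h])
  have hc0 : c ≠ 0 := fun h => hd (by rw [← hφc, h, map_zero])
  have hc0' : c' ≠ 0 := fun h => hd (by rw [← hφc', h, map_zero])
  have hXc : app x c = a • c := by rw [hX.centre, hφc, add_sub_cancel]
  have hYc : app y c' = a • c' := by rw [hY.centre, hφc', add_sub_cancel]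
  have hXi : BH x⁻¹ b⁻¹ c (-(b * a)⁻¹ • φ) := by
    have := hX.inv hb (by rw [hφc, add_sub_cancel]; exact ha)
    rwa [hφc, add_sub_cancel] at this
  have hYi : BH y⁻¹ b⁻¹ c' (-(b * a)⁻¹ • φ') := by
    have := hY.inv hb (by rw [hφc', add_sub_cancel]; exact ha)
    rwa [hφc', add_sub_cancel] at this
  have hcomm : x * y * x⁻¹ * y⁻¹ ≠ 1 := fun h => hne (by
    rw [mul_inv_eq_one, mul_inv_eq_iff_eq_mul] at h; exact h)
  have hkG : x * y * x⁻¹ * y⁻¹ ∈ G :=
    mul_mem (mul_mem (mul_mem hx hy) (inv_mem hx)) (inv_mem hy)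
  -- distinct centres
  have hli : LinearIndependent F ![c, c'] := by
    rw [LinearIndependent.pair_iff' hc0]
    intro μ hμ
    subst hμ
    obtain ⟨χ₁, h₁, e₁⟩ := hX.mul hY.smul
    obtain ⟨χ₂, h₂, e₂⟩ := h₁.mul hXi
    obtain ⟨χ₃, h₃, e₃⟩ := h₂.mul hYi.smul
    have hb1 : b * b * b⁻¹ * b⁻¹ = 1 := by field_simp
    rw [hb1] at h₃ e₃
    rw [e₂, e₁] at e₃
    simp only [LinearMap.smul_apply, smul_eq_mul] at e₃
    rw [map_smul, smul_eq_mul] at hφc'
    refine hcomm (efree_bh hE hkG h₃ ?_)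
    rw [mul_left_comm μ, hφc', hφc] at e₃
    have hinv : b⁻¹ + -(b * a)⁻¹ * (a - b) = a⁻¹ := by field_simp; ring
    rw [hinv, add_sub_cancel] at e₃
    rw [show a * a * a⁻¹ * a⁻¹ = 1 by field_simp] at e₃
    linear_combination e₃
  -- distinct axes
  have hli' : ∀ μ : F, μ • φ ≠ φ' := by
    intro μ hμ
    have hμ0 : μ ≠ 0 := fun h => hd (by rw [← hφc', ← hμ, h, zero_smul, LinearMap.zero_apply])
    subst hμ
    have hY' : BH y b (μ • c') φ := fun v => by
      rw [hY, LinearMap.smul_apply, smul_smul, smul_eq_mul, mul_comm]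
    have hYi' : BH y⁻¹ b⁻¹ (μ • c') (-(b * a)⁻¹ • φ) := fun v => by
      rw [hYi, smul_comm (-(b * a)⁻¹) μ, LinearMap.smul_apply, smul_smul, smul_eq_mul, mul_comm]
    have hXi' : BH x⁻¹ b⁻¹ (-(b * a)⁻¹ • c) φ := fun v => by
      rw [hXi, LinearMap.smul_apply, smul_smul, smul_eq_mul, mul_comm]
    have hYi'' : BH y⁻¹ b⁻¹ (-(b * a)⁻¹ • μ • c') φ := fun v => by
      rw [hYi', LinearMap.smul_apply, smul_eq_mul]
      module
    obtain ⟨e₁', h₁, e₁⟩ := hX.mulAxis hY'
    obtain ⟨e₂', h₂, e₂⟩ := h₁.mulAxis hXi'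
    obtain ⟨e₃', h₃, e₃⟩ := h₂.mulAxis hYi''
    have hb1 : b * b * b⁻¹ * b⁻¹ = 1 := by field_simp
    rw [hb1] at h₃ e₃
    rw [e₂, e₁] at e₃
    simp only [map_smul, LinearMap.smul_apply, smul_eq_mul] at e₃ hφc'
    rw [hφc, hφc'] at e₃
    have hinv : b⁻¹ + -(b * a)⁻¹ * (a - b) = a⁻¹ := by field_simp; ring
    rw [hinv, add_sub_cancel, show a * a * a⁻¹ * a⁻¹ = 1 by field_simp] at e₃
    have h0 : φ e₃' = 0 := by linear_combination e₃
    exact hcomm (efree_bh hE hkG (c := e₃') h₃ h0)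
  obtain ⟨p, hp, hp0⟩ := Submodule.exists_mem_ne_zero_of_ne_bot
    (LinearMap.ker_ne_bot_of_finrank_lt (f := φ.prod φ') (by simp))
  have hp1 : φ p = 0 := congrArg Prod.fst hp
  have hp2 : φ' p = 0 := congrArg Prod.snd hp
  refine ⟨hli, p, hp0, hp1, hp2, fun hspan => ?_⟩
  obtain ⟨α, β, hαβ⟩ := Submodule.mem_span_pair.1 hspan
  have hlin1 := congrArg φ hαβ
  have hlin2 := congrArg φ' hαβ
  rw [map_add, map_smul, map_smul, hp1, hφc, smul_eq_mul, smul_eq_mul] at hlin1
  rw [map_add, map_smul, map_smul, hp2, hφc', smul_eq_mul, smul_eq_mul] at hlin2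
  have hα : α ≠ 0 := fun h => by
    subst h
    rw [zero_mul, zero_add, mul_eq_zero, or_iff_left hd] at hlin2
    exact hp0 (by rw [← hαβ, hlin2, zero_smul, zero_smul, add_zero])
  have hβ : β ≠ 0 := fun h => by
    subst h
    rw [zero_mul, add_zero, mul_eq_zero, or_iff_left hd] at hlin1
    exact hα hlin1
  have hc' : c' = β⁻¹ • p + -(α / β) • c := by
    rw [← hαβ, smul_add, smul_smul, smul_smul, inv_mul_cancel₀ hβ, one_smul]
    module
  have h21 : φ' c = -(β / α) * (a - b) := by field_simp; linear_combination hlin2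
  have hq : φ' c ≠ 0 := by rw [h21]; exact mul_ne_zero (neg_ne_zero.2 (div_ne_zero hβ hα)) hd
  set χ : D3 F := φ + (α / β) • φ' with hχ
  have hχc : χ c = 0 := by
    rw [hχ, LinearMap.add_apply, LinearMap.smul_apply, smul_eq_mul, h21, hφc]; field_simp; ring
  have hχp : χ p = 0 := by simp [hχ, hp1, hp2]
  obtain ⟨e, he⟩ : ∃ e, χ e ≠ 0 := by
    by_contra hall
    push Not at hall
    refine hli' (-(β / α)) (LinearMap.ext fun v => ?_)
    have := hall v
    rw [hχ, LinearMap.add_apply, LinearMap.smul_apply, smul_eq_mul] at this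
    rw [LinearMap.smul_apply, smul_eq_mul]
    field_simp at this ⊢
    linear_combination -this
  obtain ⟨n, hn⟩ : ∃ n, n = x⁻¹ * y := ⟨_, rfl⟩
  obtain ⟨n', hn'⟩ : ∃ n', n' = x * n * x⁻¹ := ⟨_, rfl⟩
  have hN : ∀ v, app n v = v + (φ' v / (b * β)) • p + (-(χ v / a)) • c := fun v => by
    rw [hn, app_mul, hY, hXi, map_add, map_smul, map_smul, hc', map_add, map_smul, map_smul, LinearMap.smul_apply,
      LinearMap.smul_apply, LinearMap.smul_apply, hp1, hφc]
    simp only [hχ, LinearMap.add_apply, LinearMap.smul_apply, smul_eq_mul, mul_zero]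
    match_scalars <;> field_simp <;> ring
  have hXp : app x p = b • p := hX.axis hp1
  have hχx : ∀ v, χ (app x⁻¹ v) = χ v / b := fun v => by
    rw [hXi, map_add, map_smul, map_smul, hχc, smul_zero, add_zero, smul_eq_mul, inv_mul_eq_div]
  have hN' : ∀ v, app n' v = v + (φ' (app x⁻¹ v) / β) • p + (-(χ v / b)) • c := fun v => by
    rw [hn', app_mul, app_mul, hN, map_add, map_add, map_smul, map_smul, app_app_inv, hXp, hXc, hχx,
      smul_smul, smul_smul]
    match_scalars <;> field_simp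
  have hx'c : φ' (app x⁻¹ c) = φ' c / a := by
    have : app x⁻¹ c = a⁻¹ • c := by
      conv_lhs => rw [show c = a⁻¹ • app x c by rw [hXc, smul_smul, inv_mul_cancel₀ ha, one_smul]]
      rw [map_smul, app_inv_app]
    rw [this, map_smul, smul_eq_mul, inv_mul_eq_div]
  have hx'p : φ' (app x⁻¹ p) = 0 := by
    rw [hXi.axis (by rw [LinearMap.smul_apply, hp1, smul_zero]), map_smul, hp2, smul_zero]
  set κ := φ' c / β * (1 / a ^ 2 - 1 / b ^ 2) with hκ
  have hκ0 : κ ≠ 0 := by
    refine mul_ne_zero (div_ne_zero hq hβ) fun h => hab ?_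
    field_simp at h
    linear_combination -h
  have hdiff : ∀ v, app (n * n') v = app (n' * n) v + (κ * χ v) • p := fun v => by
    rw [app_mul, app_mul, hN' v, hN v]
    simp only [map_add, map_smul, hN p, hN c, hN' p, hN' c, hN v, hN' v, hχc, hχp, hp2, hx'c, hx'p,
      smul_eq_mul]
    rw [hκ]
    match_scalars <;> field_simp <;> ring
  have hnG : n ∈ G := hn ▸ mul_mem (inv_mem hx) hy
  have hn'G : n' ∈ G := hn' ▸ mul_mem (mul_mem hx hnG) (inv_mem hx)
  obtain ⟨m, hm⟩ : ∃ m, m = n' * n := ⟨_, rfl⟩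
  rw [← hm] at hdiff
  have hk : BH (n * n' * m⁻¹) 1 p ((κ • χ) ∘ₗ (app m⁻¹).toLinearMap) := fun v => by
    rw [app_mul, hdiff, app_app_inv, one_smul]
    rfl
  have hmp : app m p = p := by
    rw [hm, app_mul, hN, hχp, hp2]
    simp only [zero_div, neg_zero, zero_smul, add_zero]
    rw [hN', hχp, hx'p]
    simp
  have hmi : app m⁻¹ p = p := by conv_lhs => rw [← hmp, app_inv_app]
  have h1 := efree_bh hE (mul_mem (mul_mem hnG hn'G) (inv_mem (hm ▸ mul_mem hn'G hnG))) hk (by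
    show κ * χ (app m⁻¹ p) = 0
    rw [hmi, hχp, mul_zero])
  have := hk (app m e)
  rw [h1, app_one', one_smul] at this
  have h2 : (κ * χ e) • p = 0 := by
    have h3 : ((κ • χ) ∘ₗ (app m⁻¹).toLinearMap) (app m e) = κ * χ e := by
      show κ * χ (app m⁻¹ (app m e)) = _
      rw [app_inv_app]
    rw [h3] at this
    exact left_eq_add.1 this
  exact smul_ne_zero (mul_ne_zero hκ0 he) hp0 h2

end Cfsg.Agent.Mitchell
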