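import Cfsg.Agent.Lib.Mitchell.Free.NoBig
import Cfsg.Agent.Lib.Mitchell.Free.GLThreeIso
import Cfsg.Agent.S0197

/-!
# No polyhedral involution

* `Ctx.centralizer_three` : an element of order three in a `GL(2,3)` has one involution in its centraliser
* `Ctx.no_poly` : the group induced on an axis is not polyhedral
-/

set_option autoImplicit false
set_option linter.unusedSectionVars false

namespace Cfsg.Agent.Mitchell

open Cfsg.Agent.SL3Max Cfsg.Agent.Transvect Matrix

universe u

/-- In a group of order divisible by nine an element of order three has centraliser of order divisible by nine. -/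
lemma nine_dvd_centralizer {H : Type*} [Group H] [Finite H] (h9 : 9 ∣ Nat.card H) {y : H}
    (hy : orderOf y = 3) : 9 ∣ Nat.card (Subgroup.centralizer ({y} : Set H)) := by
  haveI : Fact (Nat.Prime 3) := ⟨Nat.prime_three⟩
  obtain ⟨S, hS⟩ := (IsPGroup.of_card (n := 1) (by rw [Nat.card_zpowers, hy]; rfl) :
    IsPGroup 3 (Subgroup.zpowers y)).exists_le_sylow
  have hyS : y ∈ (S : Subgroup H) := hS (Subgroup.mem_zpowers y)
  set K := (S : Subgroup H) ⊓ Subgroup.centralizer {y}
  suffices h : 9 ∣ Nat.card K from h.trans (Subgroup.card_dvd_of_le inf_le_right)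
  obtain ⟨k, hk⟩ := IsPGroup.iff_card.1 (S.2.to_le (inf_le_left : K ≤ S))
  rcases (show k ≤ 1 ∨ 2 ≤ k by omega) with h1 | h2
  swap
  · exact hk ▸ (pow_dvd_pow 3 h2)
  exfalso
  have hzy : Subgroup.zpowers y = K := Subgroup.eq_of_le_of_card_ge
    (Subgroup.zpowers_le.2 ⟨hyS, Subgroup.mem_centralizer_singleton_iff.2 rfl⟩)
    (by rw [Nat.card_zpowers, hy, hk]; exact (Nat.pow_le_pow_right (by norm_num) h1).trans (by norm_num))
  have hcard : 9 ∣ Nat.card (S : Subgroup H) := S.pow_dvd_card_of_pow_dvd_card (n := 2) h9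
  haveI : Nontrivial (S : Subgroup H) := Finite.one_lt_card_iff_nontrivial.1
    (lt_of_lt_of_le (by norm_num) (Nat.le_of_dvd Nat.card_pos hcard))
  haveI := S.2.center_nontrivial
  obtain ⟨⟨z, hz⟩, hz1⟩ := exists_ne (1 : Subgroup.center (S : Subgroup H))
  have hzc : ∀ s ∈ (S : Subgroup H), s * z.1 = z.1 * s := fun s hs =>
    congrArg Subtype.val (Subgroup.mem_center_iff.1 hz ⟨s, hs⟩)
  have hzK : z.1 ∈ Subgroup.zpowers y := by
    rw [hzy]; exact ⟨z.2, Subgroup.mem_centralizer_singleton_iff.2 (hzc y hyS).symm⟩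
  have hgen : y ∈ Subgroup.zpowers z.1 := by
    suffices h : Subgroup.zpowers z.1 = Subgroup.zpowers y by rw [h]; exact Subgroup.mem_zpowers y
    refine Subgroup.eq_of_le_of_card_ge (Subgroup.zpowers_le.2 hzK) ?_
    rw [Nat.card_zpowers, Nat.card_zpowers, hy]
    have hd : orderOf z.1 ∣ 3 := (orderOf_dvd_of_mem_zpowers hzK).trans (dvd_of_eq hy)
    rcases Nat.prime_three.eq_one_or_self_of_dvd _ hd with h | h
    · exact absurd (Subtype.ext (Subtype.ext (orderOf_eq_one_iff.1 h))) hz1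
    · exact h.ge
  have hle : (S : Subgroup H) ≤ Subgroup.zpowers y := by
    rw [hzy]
    refine fun s hs => ⟨hs, Subgroup.mem_centralizer_singleton_iff.2 ?_⟩
    obtain ⟨j, rfl⟩ := Subgroup.mem_zpowers_iff.1 hgen
    exact (Commute.zpow_right (hzc s hs) j).eq
  have := Nat.le_of_dvd Nat.card_pos (hcard.trans (Subgroup.card_dvd_of_le hle))
  rw [Nat.card_zpowers, hy] at this
  omega

lemma perm_four_no_six : ∀ a b : Equiv.Perm (Fin 4), a * a = 1 → a ≠ 1 → b * b * b = 1 → b ≠ 1 →
    a * b ≠ b * a := by decide +kernel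

variable {F : Type u} [Field F] [Finite F] {G : Subgroup (GL (Fin 3) F)}

namespace Ctx

variable (C : Ctx G)
include C

/-- An involution commuting with an element of order three of a `GL(2,3)` centraliser is the central one. -/
theorem centralizer_three {P Q : GL (Fin 3) F} (ht : tP P ∈ G)
    (e : img (rho C.two_ne G P).range ≃* Equiv.Perm (Fin 4)) {g : DP G P}
    (hg : orderOf (rho C.two_ne G P g) = 3) (hQ : tP Q ∈ G)
    (hc : (g : GL (Fin 3) F) * tP Q = tP Q * g) : tP Q = tP P := by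
  haveI : Fact (ringChar F).Prime := ⟨CharP.char_is_prime F (ringChar F)⟩
  set R := rho C.two_ne G P g with hR
  have hs : ∀ x ∈ (rho C.two_ne G P).range, Sc x →
      (x : Matrix (Fin 2) (Fin 2) F) = 1 ∨ (x : Matrix (Fin 2) (Fin 2) F) = -1 := fun x hx h =>
    C.scalars_pm hx h
  have hR3 : R * R * R = 1 := by
    have := pow_orderOf_eq_one R
    rwa [hg, pow_succ, pow_two] at this
  have h3 : (3 : F) ≠ 0 := by
    intro h
    refine C.not_dvd P ?_
    have h3' : ringChar F = 3 := ((Nat.prime_dvd_prime_iff_eq Fact.out Nat.prime_three).1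
      ((ringChar.spec F 3).1 (by exact_mod_cast h)))
    rw [h3']
    have := orderOf_dvd_natCard (⟨R, ⟨g, rfl⟩⟩ : (rho C.two_ne G P).range)
    rwa [← Subgroup.orderOf_coe, hg] at this
  have hRsc : ¬ Sc R := fun hsc => by
    rcases hs R ⟨g, rfl⟩ hsc with h | h
    · rw [show R = 1 from Units.ext h, orderOf_one] at hg; omega
    · have hm : R = -1 := Units.ext (by rw [h, Units.val_neg, Units.val_one])
      rw [hm] at hR3
      have := congrArg (fun x : GL (Fin 2) F => (x : Matrix (Fin 2) (Fin 2) F) 0 0) hR3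
      simp at this
      exact C.two_ne (by linear_combination -this)
  -- `R` has no eigenvalue one
  set T := (R : Matrix (Fin 2) (Fin 2) F) with hT
  have hd : T.det = 1 := by
    have h2 := det_sq hs e (x := R) ⟨g, rfl⟩
    have h3' : T.det ^ 3 = 1 := by
      have := congrArg (fun x : GL (Fin 2) F => (x : Matrix (Fin 2) (Fin 2) F).det) hR3
      simp only [Units.val_mul, det_mul, Units.val_one, det_one] at this
      linear_combination this
    linear_combination h3' - T.det * h2
  have htr : T.trace = -1 := by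
    have e2 : T * T * T = (T.trace * T.trace - 1) • T - T.trace • (1 : Matrix (Fin 2) (Fin 2) F) := by
      rw [sq_eq_trace, hd, one_smul, sub_mul, smul_mul_assoc, sq_eq_trace, hd, one_mul, one_smul]
      module
    have h1 : T * T * T = 1 := by rw [hT, ← Units.val_mul, ← Units.val_mul, hR3, Units.val_one]
    rw [h1] at e2
    by_cases hc0 : T.trace * T.trace - 1 = 0
    · rw [hc0, zero_smul, zero_sub] at e2
      have := congrFun (congrFun e2 0) 0
      simp at this
      linear_combination this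
    · refine absurd ⟨(1 + T.trace) / (T.trace * T.trace - 1), ?_⟩ hRsc
      refine smul_right_injective _ hc0 ?_
      show _ • _ = _ • _
      rw [smul_smul, mul_div_cancel₀ _ hc0, add_smul, one_smul, ← sub_add_cancel ((T.trace * T.trace - 1) • T)
        (T.trace • (1 : Matrix (Fin 2) (Fin 2) F)), ← e2]
  rw [trace_fin_two] at htr
  rw [det_fin_two] at hd
  have key : ∀ {a b : F}, T 0 0 * a + T 0 1 * b = a → T 1 0 * a + T 1 1 * b = b → a = 0 ∧ b = 0 :=
    fun {a b} ea eb =>
    ⟨(mul_eq_zero.1 (show (3 : F) * a = 0 by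
      linear_combination (T 1 1 - 1) * ea - T 0 1 * eb + a * htr - a * hd)).resolve_left h3,
     (mul_eq_zero.1 (show (3 : F) * b = 0 by
      linear_combination (T 0 0 - 1) * eb - T 1 0 * ea + b * htr - b * hd)).resolve_left h3⟩
  have key' : ∀ {a b : F}, a * T 0 0 + b * T 1 0 = a → a * T 0 1 + b * T 1 1 = b → a = 0 ∧ b = 0 :=
    fun {a b} ea eb =>
    ⟨(mul_eq_zero.1 (show (3 : F) * a = 0 by
      linear_combination (T 1 1 - 1) * ea - T 1 0 * eb + a * htr - a * hd)).resolve_left h3,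
     (mul_eq_zero.1 (show (3 : F) * b = 0 by
      linear_combination (T 0 0 - 1) * eb - T 0 1 * ea + b * htr - b * hd)).resolve_left h3⟩
  -- the matrix of `tP Q` in the frame of `P`
  set Z := toStd G P g with hZdef
  obtain ⟨m, hmdef⟩ : ∃ m : GL (Fin 3) F, m = P⁻¹ * tP Q * P := ⟨_, rfl⟩
  have hmZ : (Z : GL (Fin 3) F).1 * m.1 = m.1 * (Z : GL (Fin 3) F).1 := by
    rw [← Units.val_mul, ← Units.val_mul, hZdef, toStd_apply, hmdef,
      show P⁻¹ * (g : GL (Fin 3) F) * P * (P⁻¹ * tP Q * P) = P⁻¹ * ((g : GL (Fin 3) F) * tP Q) * P by group, hc]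
    congr 1
    group
  obtain ⟨z02, z12, z20, z21⟩ := entries C.two_ne Z.2
  have hchi : chiHom C.two_ne Z ≠ 0 := chiHom_ne C.two_ne Z
  set χ := chiHom C.two_ne Z with hχ
  have hblk : ∀ i j : Fin 2, (Z : GL (Fin 3) F).1 (Fin.castLE (by omega) i) (Fin.castLE (by omega) j) =
      χ * T i j := fun i j => by
    rw [hT, hR, show rho C.two_ne G P g = blockHom C.two_ne Z from rfl, blockHom_apply, ← hχ,
      mul_inv_cancel_left₀ hchi]
  have b00 : (Z : GL (Fin 3) F).1 0 0 = _ := hblk 0 0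
  have b01 : (Z : GL (Fin 3) F).1 0 1 = _ := hblk 0 1
  have b10 : (Z : GL (Fin 3) F).1 1 0 = _ := hblk 1 0
  have b11 : (Z : GL (Fin 3) F).1 1 1 = _ := hblk 1 1
  have b22 : (Z : GL (Fin 3) F).1 2 2 = χ := rfl
  have hent : ∀ i j, ((Z : GL (Fin 3) F).1 * m.1) i j = (m.1 * (Z : GL (Fin 3) F).1) i j := fun i j => by
    rw [hmZ]
  have c0 := hent 0 2
  have c1 := hent 1 2
  have r0 := hent 2 0
  have r1 := hent 2 1
  simp only [mul_apply, Fin.sum_univ_three, z02, z12, z20, z21, b00, b01, b10, b11, b22] at c0 c1 r0 r1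
  obtain ⟨m02, m12⟩ := key (a := m.1 0 2) (b := m.1 1 2)
    (mul_left_cancel₀ hchi (by linear_combination c0)) (mul_left_cancel₀ hchi (by linear_combination c1))
  obtain ⟨m20, m21⟩ := key' (a := m.1 2 0) (b := m.1 2 1)
    (mul_left_cancel₀ hchi (by linear_combination -r0)) (mul_left_cancel₀ hchi (by linear_combination -r1))
  have hcd : m * d0 = d0 * m := Units.ext (by
    rw [Units.val_mul, Units.val_mul, d0_val]
    ext i j
    rw [mul_diagonal, diagonal_mul]
    fin_cases i <;> fin_cases j <;> simp [m02, m12, m20, m21])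
  have hu : tP Q ∈ DP G P := (mem_DP G P).2 ⟨hQ, by
    calc tP Q * tP P = P * (m * d0) * P⁻¹ := by simp only [hmdef, tP]; group
      _ = P * (d0 * m) * P⁻¹ := by rw [hcd]
      _ = tP P * tP Q := by simp only [hmdef, tP]; group⟩
  by_contra hne
  obtain ⟨hns, hsq⟩ := C.rho_not_sc ht hu hne
  set r := rho C.two_ne G P ⟨tP Q, hu⟩ with hr
  have hrR : R * r = r * R := by
    rw [hR, hr, ← map_mul, ← map_mul]
    exact congrArg _ (Subtype.ext hc)
  let A : img (rho C.two_ne G P).range := ⟨ProjGenLinGroup.mk r, Subgroup.mem_map_of_mem _ ⟨_, rfl⟩⟩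
  let B : img (rho C.two_ne G P).range := ⟨ProjGenLinGroup.mk R, Subgroup.mem_map_of_mem _ ⟨_, rfl⟩⟩
  refine perm_four_no_six (e A) (e B) ?_ ?_ ?_ ?_ ?_
  · rw [← map_mul, show A * A = 1 from Subtype.ext (by
      show ProjGenLinGroup.mk r * ProjGenLinGroup.mk r = 1
      rw [← map_mul, hsq, map_one]), map_one]
  · exact fun h => hns (sc_iff_mk.2 (congrArg Subtype.val (e.map_eq_one_iff.1 h)))
  · rw [← map_mul, ← map_mul, show B * B * B = 1 from Subtype.ext (by
      show ProjGenLinGroup.mk R * ProjGenLinGroup.mk R * ProjGenLinGroup.mk R = 1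
      rw [← map_mul, ← map_mul, hR3, map_one]), map_one]
  · exact fun h => hRsc (sc_iff_mk.2 (congrArg Subtype.val (e.map_eq_one_iff.1 h)))
  · rw [← map_mul, ← map_mul, show A * B = B * A from Subtype.ext (by
      show ProjGenLinGroup.mk r * ProjGenLinGroup.mk R = ProjGenLinGroup.mk R * ProjGenLinGroup.mk r
      exact (map_mul _ _ _).symm.trans ((congrArg _ hrR.symm).trans (map_mul _ _ _)))]

/-- The group induced on an axis is not polyhedral. -/
theorem no_poly {P : GL (Fin 3) F} (ht : tP P ∈ G) : ¬ Poly (rho C.two_ne G P).range := by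
  intro hP
  haveI : Fact (ringChar F).Prime := ⟨CharP.char_is_prime F (ringChar F)⟩
  haveI := C.simple
  have hs : ∀ x ∈ (rho C.two_ne G P).range, Sc x →
      (x : Matrix (Fin 2) (Fin 2) F) = 1 ∨ (x : Matrix (Fin 2) (Fin 2) F) = -1 := fun x hx h =>
    C.scalars_pm hx h
  obtain ⟨k, hk1, hk2⟩ := C.exists_commuting_conj ht
  rw [tP_conj] at hk1 hk2
  obtain ⟨hns, hsq⟩ := C.rho_not_sc ht hk2 hk1
  obtain ⟨e⟩ := perm_four_of_involution (ringChar F) C.two_ne (C.not_dvd P) hP hs ⟨_, rfl⟩ hns hsq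
  obtain ⟨eM⟩ := gl23_of_perm_four C.two_ne hs ⟨_, rho_tP C.two_ne ht⟩ e ⟨_, rfl⟩ hns hsq
  obtain ⟨ec, hec⟩ := C.cent_equiv ht
  set t := pr G ⟨tP P, ht⟩ with htdef
  have hord := C.orderOf_pr_tP ht
  have h48 : Nat.card (Subgroup.centralizer ({t} : Set (Sq G))) = 48 := by
    rw [Nat.card_congr (ec.trans eM).toEquiv, card_gl23]
  have h9 : 9 ∣ Nat.card (Sq G) := by
    rcases S0197.result t hord (ec.trans eM) with h | h <;> rw [h] <;> norm_num
  haveI : Fact (Nat.Prime 3) := ⟨Nat.prime_three⟩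
  obtain ⟨⟨y, hyt⟩, hy⟩ := exists_prime_orderOf_dvd_card' (G := Subgroup.centralizer ({t} : Set (Sq G)))
    3 (by rw [h48]; norm_num)
  have hy' : orderOf y = 3 := by rwa [Subgroup.orderOf_mk] at hy
  obtain ⟨z, rfl⟩ := QuotientGroup.mk'_surjective _ y
  have hzD : (z : GL (Fin 3) F) ∈ DP G P :=
    C.mem_DP_of_commute ht (Subgroup.mem_centralizer_singleton_iff.1 hyt)
  have hR : orderOf (rho C.two_ne G P ⟨z, hzD⟩) = 3 := by
    rw [← hec ⟨z, hzD⟩ hyt, Subgroup.orderOf_coe, MulEquiv.orderOf_eq, hy]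
  have hle : Subgroup.centralizer ({pr G z} : Set (Sq G)) ≤ Subgroup.centralizer {t} := by
    intro k hk
    rw [Subgroup.mem_centralizer_singleton_iff] at hk hyt ⊢
    have hkt : orderOf (k * t * k⁻¹) = 2 := by
      rw [← MulAut.conj_apply, MulEquiv.orderOf_eq]; exact hord
    obtain ⟨Q, hQ, hQk⟩ := C.exists_lift hkt
    have hzc : pr G z * pr G ⟨tP Q, hQ⟩ = pr G ⟨tP Q, hQ⟩ * pr G z := by
      rw [hQk]
      calc pr G z * (k * t * k⁻¹) = (pr G z * k) * t * k⁻¹ := by group
        _ = k * (pr G z * t) * k⁻¹ := by rw [← hk]; group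
        _ = k * t * (pr G z * k⁻¹) := by rw [hyt]; group
        _ = k * t * (k⁻¹ * pr G z) := by
            rw [show pr G z * k⁻¹ = k⁻¹ * pr G z from (Commute.inv_left hk).eq.symm]
        _ = _ := by group
    have heq := C.centralizer_three ht e hR hQ (C.commute_lift hQ hzc)
    have : pr G ⟨tP Q, hQ⟩ = t := congrArg (pr G) (Subtype.ext heq)
    rw [hQk] at this
    exact mul_inv_eq_iff_eq_mul.1 this
  have := (nine_dvd_centralizer h9 hy').trans (Subgroup.card_dvd_of_le hle)
  rw [h48] at this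
  norm_num at this

end Ctx

end Cfsg.Agent.Mitchell
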