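import Cfsg.Agent.Lib.Mitchell.Free.GLTwo
import Cfsg.Agent.Lib.AbelianTwoFactor.Basic

/-!
# Two-subgroups of `GL₂` with scalars `±1` and no polyhedral pair

* `commutant_comm` : the centraliser of a non-scalar matrix is commutative
* `two_shape` : if not abelian, a generator `y` of order `2^n` and an `h` inverting it up to sign
-/

set_option autoImplicit false
set_option linter.unusedSectionVars false

namespace Cfsg.Agent.Mitchell

open Matrix

variable {F : Type*} [Field F]

lemma commutant_mem {a b : Matrix (Fin 2) (Fin 2) F} (ha : ∀ c : F, a ≠ c • 1) (h : a * b = b * a) :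
    ∃ r s : F, b = r • a + s • 1 := by
  have e01 := congrFun (congrFun h 0) 1
  have e10 := congrFun (congrFun h 1) 0
  have e00 := congrFun (congrFun h 0) 0
  simp [Matrix.mul_apply, Fin.sum_univ_two] at e01 e10 e00
  by_cases h01 : a 0 1 = 0
  · by_cases h10 : a 1 0 = 0
    · have hd : a 0 0 - a 1 1 ≠ 0 := fun e => ha (a 0 0) (by
        ext i j
        fin_cases i <;> fin_cases j <;> simp [h01, h10]
        linear_combination -e)
      rw [h01] at e01
      rw [h10] at e10
      have g01 : b 0 1 = 0 := (mul_eq_zero.1 (show (a 0 0 - a 1 1) * b 0 1 = 0 by linear_combination e01)).resolve_left hd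
      have g10 : b 1 0 = 0 := (mul_eq_zero.1 (show (a 0 0 - a 1 1) * b 1 0 = 0 by linear_combination -e10)).resolve_left hd
      refine ⟨(b 0 0 - b 1 1) / (a 0 0 - a 1 1), b 0 0 - (b 0 0 - b 1 1) / (a 0 0 - a 1 1) * a 0 0, ?_⟩
      ext i j
      fin_cases i <;> fin_cases j <;> simp [h01, h10, g01, g10]
      field_simp
      ring
    · refine ⟨b 1 0 / a 1 0, b 0 0 - b 1 0 / a 1 0 * a 0 0, ?_⟩
      rw [h01] at e01 e00
      have g01 : b 0 1 = 0 := by
        have := (mul_eq_zero.1 (show b 0 1 * a 1 0 = 0 by linear_combination -e00)).resolve_right h10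
        exact this
      ext i j
      fin_cases i <;> fin_cases j <;> simp [h01, g01, h10]
      field_simp
      linear_combination -e10
  · refine ⟨b 0 1 / a 0 1, b 0 0 - b 0 1 / a 0 1 * a 0 0, ?_⟩
    ext i j
    fin_cases i <;> fin_cases j <;> simp [h01] <;> field_simp <;>
      first
        | linear_combination e00
        | linear_combination e01
        | linear_combination -e01

/-- The centraliser of a non-scalar matrix is commutative. -/
lemma commutant_comm {a b c : GL (Fin 2) F} (ha : ¬ Sc a) (hb : a * b = b * a) (hc : a * c = c * a) :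
    b * c = c * b := by
  have ha' : ∀ k : F, (a : Matrix (Fin 2) (Fin 2) F) ≠ k • 1 := fun k h => ha ⟨k, h⟩
  obtain ⟨r, s, h1⟩ := commutant_mem (b := (b : Matrix (Fin 2) (Fin 2) F)) ha' (by rw [← Units.val_mul, ← Units.val_mul, hb])
  obtain ⟨r', s', h2⟩ := commutant_mem (b := (c : Matrix (Fin 2) (Fin 2) F)) ha' (by rw [← Units.val_mul, ← Units.val_mul, hc])
  refine Units.ext ?_
  rw [Units.val_mul, Units.val_mul, h1, h2]
  simp only [add_mul, mul_add, smul_mul_assoc, mul_smul_comm, one_mul, mul_one, smul_smul]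
  module

/-- The shape of a non-abelian two-subgroup. -/
theorem two_shape (h2 : (2 : F) ≠ 0) {T : Subgroup (GL (Fin 2) F)} [Finite T] (hT : IsPGroup 2 T)
    (hneg : -1 ∈ T)
    (hs : ∀ x ∈ T, Sc x → (x : Matrix (Fin 2) (Fin 2) F) = 1 ∨ (x : Matrix (Fin 2) (Fin 2) F) = -1)
    (hnp : ¬ Poly T) (hnc : ∃ a ∈ T, ∃ b ∈ T, a * b ≠ b * a) :
    ∃ (n : ℕ) (y h : GL (Fin 2) F), 2 ≤ n ∧ y ∈ T ∧ h ∈ T ∧ orderOf y = 2 ^ n ∧ y ^ 2 ^ (n - 1) = -1 ∧
      h ∉ Subgroup.zpowers y ∧ Nat.card T = 2 ^ (n + 1) ∧
      (h * y * h⁻¹ = y⁻¹ ∨ h * y * h⁻¹ = -y⁻¹) ∧ (h * h = 1 ∨ h * h = -1) ∧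
      (3 ≤ n → ¬ Sc (y * y)) := by
  classical
  have hpm : ∀ x ∈ T, Sc x → x = 1 ∨ x = -1 := fun x hx hsc =>
    (hs x hx hsc).imp (fun h => Units.ext h) (fun h => Units.ext (h.trans (by simp)))
  have hne : (-1 : GL (Fin 2) F) ≠ 1 := fun h => h2 (by
    have := congrArg (fun g : GL (Fin 2) F => (g : Matrix (Fin 2) (Fin 2) F) 0 0) h
    simp at this
    linear_combination -this)
  by_cases hA : ∃ a ∈ T, ¬ Sc (a * a)
  · obtain ⟨a, haT, haa⟩ := hA
    have ha : ¬ Sc a := fun ⟨c, hc⟩ => haa ⟨c * c, by rw [Units.val_mul, hc, smul_mul_assoc, one_mul, smul_smul]⟩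
    set A : Subgroup (GL (Fin 2) F) := T ⊓ Subgroup.centralizer {a} with hAdef
    have memA : ∀ {x}, x ∈ A ↔ x ∈ T ∧ a * x = x * a := fun {x} =>
      and_congr Iff.rfl (Subgroup.mem_centralizer_singleton_iff.trans eq_comm)
    have hAc : ∀ x ∈ A, ∀ z ∈ A, x * z = z * x := fun x hx z hz =>
      commutant_comm ha (memA.1 hx).2 (memA.1 hz).2
    have hout : ∀ h ∈ T, h ∉ A → h * h = 1 ∨ h * h = -1 := fun h hh hhA =>
      hpm _ (mul_mem hh hh) (by
        by_contra hsc
        refine hnp ⟨a, haT, h, hh, haa, hsc, fun e => hhA (memA.2 ⟨hh, e⟩)⟩)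
    have hinv : ∀ h ∈ T, h ∉ A → ∀ x ∈ A, h * x * h⁻¹ = x⁻¹ ∨ h * x * h⁻¹ = -x⁻¹ := by
      intro h hh hhA x hx
      have hhx : h * x ∉ A := fun e => hhA (by
        have := mul_mem e (inv_mem hx)
        rwa [mul_inv_cancel_right] at this)
      have key : h * x * h⁻¹ = h * x * (h * x) * x⁻¹ * (h * h)⁻¹ := by group
      rcases hout _ (mul_mem hh (memA.1 hx).1) hhx with e | e <;> rcases hout h hh hhA with e' | e' <;>
        rw [key, e, e'] <;> simp
    obtain ⟨b, hbT, c, hcT, hbc⟩ := hnc
    obtain ⟨h, hhT, hhA⟩ : ∃ h ∈ T, h ∉ A := by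
      by_contra hall
      push Not at hall
      exact hbc (hAc b (hall b hbT) c (hall c hcT))
    have hneA : -1 ∈ A := memA.2 ⟨hneg, by simp⟩
    have hncomm : ∀ v ∈ A, ¬ Sc v → h * v ≠ v * h := fun v hv hsc e =>
      hhA (memA.2 ⟨hhT, commutant_comm hsc (hAc v hv a (memA.2 ⟨haT, rfl⟩)) e.symm⟩)
    have huniq : ∀ v ∈ A, v * v = 1 → v = 1 ∨ v = -1 := by
      intro v hv hvv
      by_contra hv'
      push Not at hv'
      have hvs : ¬ Sc v := fun hsc => (hpm v (memA.1 hv).1 hsc).elim hv'.1 hv'.2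
      have hvi : v⁻¹ = v := inv_eq_of_mul_eq_one_right hvv
      have hanti : h * v * h⁻¹ = -v := by
        rcases hinv h hhT hhA v hv with e | e
        · exact absurd (mul_inv_eq_iff_eq_mul.1 (e.trans hvi)) (hncomm v hv hvs)
        · rwa [hvi] at e
      -- every element of `A` squares to `1`
      have hexp : ∀ x ∈ A, x * x = 1 := by
        have hsq : ∀ x ∈ A, x * x * (x * x) = 1 → x * x = 1 := by
          intro x hx hx4
          by_cases hsc : Sc (x * x)
          · rcases hpm _ (mul_mem (memA.1 hx).1 (memA.1 hx).1) hsc with e | e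
            · exact e
            exfalso
            have hxs : ¬ Sc x := fun hs' => by
              rcases hpm x (memA.1 hx).1 hs' with e' | e' <;> rw [e'] at e <;> simp at e
              · exact hne e.symm
              · exact hne e.symm
            have htr : ∀ {z : GL (Fin 2) F}, Sc (z * z) → ¬ Sc z →
                (z : Matrix (Fin 2) (Fin 2) F).trace = 0 := by
              intro z ⟨c, hc⟩ hz
              by_contra ht
              rw [Units.val_mul, sq_eq_trace, sub_eq_iff_eq_add, ← add_smul] at hc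
              exact hz ⟨(c + (z : Matrix (Fin 2) (Fin 2) F).det) / (z : Matrix (Fin 2) (Fin 2) F).trace,
                smul_right_injective _ ht (by
                  show _ • _ = _ • _
                  rw [hc, smul_smul, mul_div_cancel₀ _ ht])⟩
            obtain ⟨k, hk⟩ := prop_of_comm h2 (htr hsc hxs) (htr (by rw [hvv]; exact sc_one) hvs)
              (fun e' => x.ne_zero e') (by rw [← Units.val_mul, ← Units.val_mul, hAc x hx v hv])
            have hxv : Sc (x * v) := ⟨-k, by
              rw [Units.val_mul, hk, mul_smul_comm, ← Units.val_mul, e, Units.val_neg, Units.val_one,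
                smul_neg, neg_smul]⟩
            rcases hpm _ (mul_mem (memA.1 hx).1 (memA.1 hv).1) hxv with e' | e' <;>
            · have h1 := congrArg (fun g => g * v) e'
              simp [mul_assoc, hvv] at h1
              rw [h1] at e
              simp [hvv] at e
              exact hne e.symm
          · exfalso
            refine hncomm _ (mul_mem hx hx) hsc ?_
            have hxx : (x * x)⁻¹ = x * x := inv_eq_of_mul_eq_one_right hx4
            rw [← mul_inv_eq_iff_eq_mul]
            have e1 : h * (x * x) * h⁻¹ = h * x * h⁻¹ * (h * x * h⁻¹) := by group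
            rcases hinv h hhT hhA x hx with e | e <;> rw [e1, e] <;>
              simp [← _root_.mul_inv_rev, hxx]
        intro x hx
        haveI : Fact (Nat.Prime 2) := ⟨Nat.prime_two⟩
        obtain ⟨k, hk⟩ := IsPGroup.iff_orderOf.1 hT ⟨x, (memA.1 hx).1⟩
        rw [Subgroup.orderOf_mk] at hk
        have key : ∀ k, x ^ 2 ^ k = 1 → x * x = 1 := by
          intro k
          induction k with
          | zero => intro e; rw [pow_zero, pow_one] at e; rw [e, one_mul]
          | succ k ih =>
            intro e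
            rcases Nat.eq_zero_or_pos k with rfl | hk0
            · simpa [pow_two] using e
            · obtain ⟨j, rfl⟩ : ∃ j, k = j + 1 := ⟨k - 1, by omega⟩
              apply ih
              rw [show 2 ^ (j + 1) = 2 ^ j * 2 from pow_succ 2 j, pow_mul, pow_two]
              apply hsq _ (pow_mem hx _)
              rw [← e, show 2 ^ (j + 1 + 1) = 2 ^ j + 2 ^ j + (2 ^ j + 2 ^ j) by ring, pow_add, pow_add]
        exact key k (hk ▸ pow_orderOf_eq_one x)
      exact haa (by rw [hexp a (memA.2 ⟨haT, rfl⟩)]; exact sc_one)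
    haveI : Finite A := Finite.of_injective (fun x : A => (⟨x.1, (memA.1 x.2).1⟩ : T))
      (fun x z e => Subtype.ext (congrArg Subtype.val e :))
    haveI hcyc : IsCyclic A := AbelianTwoFactor.isCyclic_of_unique_involution (hT.to_le inf_le_left)
      (fun x z => Subtype.ext (hAc x.1 x.2 z.1 z.2)) (v := ⟨-1, hneA⟩) fun x hx =>
        (huniq x.1 x.2 (congrArg Subtype.val hx)).imp (fun e => Subtype.ext e) (fun e => Subtype.ext e)
    obtain ⟨y, hy⟩ := hcyc.exists_ofOrder_eq_natCard
    haveI : Fact (Nat.Prime 2) := ⟨Nat.prime_two⟩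
    obtain ⟨n, hn⟩ := IsPGroup.iff_card.1 (hT.to_le (inf_le_left : A ≤ T))
    have hordy : orderOf (y : GL (Fin 2) F) = 2 ^ n := by rw [Subgroup.orderOf_coe, hy, hn]
    have hzp : Subgroup.zpowers (y : GL (Fin 2) F) = A :=
      Subgroup.eq_of_le_of_card_ge (Subgroup.zpowers_le.2 y.2) (by rw [Nat.card_zpowers, hordy, ← hn])
    obtain ⟨j, hj⟩ : ∃ j : ℤ, (y : GL (Fin 2) F) ^ j = a :=
      Subgroup.mem_zpowers_iff.1 (by rw [hzp]; exact memA.2 ⟨haT, rfl⟩)
    have hyy : ¬ Sc ((y : GL (Fin 2) F) * (y : GL (Fin 2) F)) := fun hsc => haa (by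
      rw [← hj, ← (Commute.refl (y : GL (Fin 2) F)).mul_zpow]
      rw [sc_iff_mk, map_zpow, sc_iff_mk.1 hsc, _root_.one_zpow])
    have hn2 : 2 ≤ n := by
      by_contra hlt
      apply hyy
      have : (y : GL (Fin 2) F) ^ 2 = 1 :=
        orderOf_dvd_iff_pow_eq_one.1 (hordy ▸ (show (2 : ℕ) ^ n ∣ 2 from
          (pow_dvd_pow 2 (show n ≤ 1 by omega)).trans (by norm_num)))
      rw [← pow_two, this]; exact sc_one
    have hhalf : (y : GL (Fin 2) F) ^ 2 ^ (n - 1) = -1 := by
      rcases huniq _ (pow_mem y.2 _) (by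
          rw [← pow_add, show 2 ^ (n - 1) + 2 ^ (n - 1) = 2 ^ n by
            obtain ⟨m, rfl⟩ : ∃ m, n = m + 1 := ⟨n - 1, by omega⟩
            simp [pow_succ]; ring, ← hordy, pow_orderOf_eq_one]) with e | e
      · exact absurd (hordy ▸ orderOf_dvd_of_pow_eq_one e) (Nat.not_dvd_of_pos_of_lt (by positivity)
          (Nat.pow_lt_pow_right (by norm_num) (by omega)))
      · exact e
    have hidx : Nat.card T = 2 * Nat.card A := by
      have hmul : ∀ g ∈ T, g ∉ A → h * g ∈ A := by
        intro g hg hgA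
        refine memA.2 ⟨mul_mem hhT hg, ?_⟩
        have hz : ∀ {u}, u ∈ T → u ∉ A → u * a * u⁻¹ = a⁻¹ ∨ u * a * u⁻¹ = -a⁻¹ := fun hu huA =>
          hinv _ hu huA a (memA.2 ⟨haT, rfl⟩)
        have e1 : h * g * a * (h * g)⁻¹ = a ∨ h * g * a * (h * g)⁻¹ = -a := by
          rw [show h * g * a * (h * g)⁻¹ = h * (g * a * g⁻¹) * h⁻¹ by group]
          have e2 : h * a⁻¹ * h⁻¹ = (h * a * h⁻¹)⁻¹ := by group
          rcases hz hg hgA with e | e <;> rcases hz hhT hhA with e' | e' <;>
            simp [e, e2, e']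
        rcases e1 with e | e
        · exact (mul_inv_eq_iff_eq_mul.1 e).symm
        · exfalso
          refine haa (sc_sq_of_anti h2 (x := a) (y := h * g) ?_)
          rw [mul_inv_eq_iff_eq_mul] at e
          rw [e, neg_mul, neg_neg]
      have h1 := Subgroup.card_mul_index (A.subgroupOf T)
      have hi : (A.subgroupOf T).index = 2 := by
        rw [Subgroup.index_eq_two_iff]
        refine ⟨⟨h, hhT⟩, fun g => ?_⟩
        simp only [Subgroup.mem_subgroupOf, Subgroup.coe_mul]
        by_cases hg : (g : GL (Fin 2) F) ∈ A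
        · refine Or.inr ⟨hg, fun e => hhA ?_⟩
          have := mul_mem (inv_mem hg) e
          rwa [inv_mul_cancel_left] at this
        · have h1 := hmul g g.2 hg
          refine Or.inl ⟨?_, hg⟩
          have : (g : GL (Fin 2) F) * h = h⁻¹ * (h * g) * h := by group
          rw [this]
          rcases hinv h⁻¹ (inv_mem hhT) (fun e => hhA (by simpa using inv_mem e)) _ h1 with e | e <;>
            rw [inv_inv] at e <;> rw [e]
          · exact inv_mem h1
          · rw [← neg_one_mul]; exact mul_mem hneA (inv_mem h1)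
      have hca : Nat.card (A.subgroupOf T) = Nat.card A :=
        Nat.card_congr (Subgroup.subgroupOfEquivOfLe (inf_le_left : A ≤ T)).toEquiv
      rw [hi, hca] at h1
      rw [← h1, mul_comm]
    exact ⟨n, y, h, hn2, (memA.1 y.2).1, hhT, hordy, hhalf, (by rw [hzp]; exact hhA), by rw [hidx, hn, pow_succ, mul_comm],
      hinv h hhT hhA y y.2, hout h hhT hhA, fun _ => hyy⟩
  · push Not at hA
    obtain ⟨g, hgT, h, hhT, hgh⟩ := hnc
    have hsq : ∀ x ∈ T, x * x = 1 ∨ x * x = -1 := fun x hx => hpm _ (mul_mem hx hx) (hA x hx)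
    have hantic : ∀ x ∈ T, ∀ z ∈ T, x * z = z * x ∨ x * z = -(z * x) := fun x hx z hz => comm_or_anti (by
      rw [sc_iff_mk, map_mul, map_mul, map_mul, map_inv, map_inv]
      have s : ∀ u ∈ T, (ProjGenLinGroup.mk u)⁻¹ = ProjGenLinGroup.mk u := fun u hu =>
        inv_eq_of_mul_eq_one_right (by rw [← map_mul]; exact sc_iff_mk.1 (hA u hu))
      rw [s x hx, s z hz, ← map_mul, ← map_mul, ← map_mul, ← sc_iff_mk, mul_assoc]
      exact hA _ (mul_mem hx hz))
    have hanti : g * h = -(h * g) := (hantic g hgT h hhT).resolve_left hgh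
    have hns : ∀ {x z : GL (Fin 2) F}, x * z = -(z * x) → ¬ Sc x := fun {x z} e hsc => h2 (by
      rw [sc_comm hsc z] at e
      have e' : (1 : GL (Fin 2) F) = -1 := mul_right_cancel (b := z * x) (by rw [one_mul, neg_one_mul, ← e])
      exact absurd e'.symm hne)
    have hg1 := hns hanti
    have hh1 := hns (show h * g = -(g * h) by rw [hanti, neg_neg])
    have htr : ∀ {z : GL (Fin 2) F}, Sc (z * z) → ¬ Sc z → (z : Matrix (Fin 2) (Fin 2) F).trace = 0 := by
      intro z ⟨c, hc⟩ hz
      by_contra ht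
      rw [Units.val_mul, sq_eq_trace, sub_eq_iff_eq_add, ← add_smul] at hc
      exact hz ⟨(c + (z : Matrix (Fin 2) (Fin 2) F).det) / (z : Matrix (Fin 2) (Fin 2) F).trace,
        smul_right_injective _ ht (by
          show _ • _ = _ • _
          rw [hc, smul_smul, mul_div_cancel₀ _ ht])⟩
    have hprop : ∀ x ∈ T, ∀ z ∈ T, ¬ Sc z → x * z = z * x → x = 1 ∨ x = -1 ∨ x = z ∨ x = -z := by
      intro x hx z hz hzs hcm
      by_cases hxs : Sc x
      · exact (hpm x hx hxs).imp id Or.inl
      obtain ⟨k, hk⟩ := prop_of_comm h2 (htr (hA z hz) hzs) (htr (hA x hx) hxs)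
        (fun e' => z.ne_zero e') (by rw [← Units.val_mul, ← Units.val_mul, hcm])
      have hsc : Sc (z⁻¹ * x) := ⟨k, by rw [Units.val_mul, hk, mul_smul_comm, ← Units.val_mul,
        inv_mul_cancel, Units.val_one]⟩
      rcases hpm _ (mul_mem (inv_mem hz) hx) hsc with e | e
      · exact Or.inr (Or.inr (Or.inl (inv_mul_eq_one.1 e).symm))
      · right; right; right
        rw [inv_mul_eq_iff_eq_mul] at e
        rw [e, mul_neg, mul_one]
    let S8 : Finset (GL (Fin 2) F) := {1, -1, g, -g, h, -h, g * h, -(g * h)}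
    have hsub : ∀ x ∈ T, x ∈ S8 := by
      intro x hx
      simp only [S8, Finset.mem_insert, Finset.mem_singleton]
      rcases hantic x hx g hgT with e | e
      · rcases hprop x hx g hgT hg1 e with r | r | r | r <;> simp [r]
      · rcases hantic x hx h hhT with e' | e'
        · rcases hprop x hx h hhT hh1 e' with r | r | r | r <;> simp [r]
        · have hgh1 : ¬ Sc (g * h) := fun hsc => hg1 (by
            exfalso
            have := sc_comm hsc g
            rw [mul_assoc g h g, mul_left_cancel_iff] at this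
            exact hgh this.symm)
          rcases hprop x hx (g * h) (mul_mem hgT hhT) hgh1 (by
            rw [← mul_assoc, e, neg_mul, mul_assoc g x h, e', mul_neg, neg_neg, mul_assoc]) with r | r | r | r <;>
            simp [r]
    have hcard : Nat.card T ≤ 8 := by
      refine le_trans (Nat.card_le_card_of_injective (fun x : T => (⟨x.1, hsub x.1 x.2⟩ : S8))
        (fun a b e => Subtype.ext (congrArg Subtype.val e :))) ?_
      rw [Nat.card_eq_fintype_card, Fintype.card_coe]
      have h3 : ∀ (s : Finset (GL (Fin 2) F)) (a), (insert a s).card ≤ s.card + 1 := fun s a => Finset.card_insert_le a s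
      refine le_trans (h3 _ _) (Nat.succ_le_succ (le_trans (h3 _ _) (Nat.succ_le_succ
        (le_trans (h3 _ _) (Nat.succ_le_succ (le_trans (h3 _ _) (Nat.succ_le_succ
          (le_trans (h3 _ _) (Nat.succ_le_succ (le_trans (h3 _ _) (Nat.succ_le_succ
            (le_trans (h3 _ _) (Nat.succ_le_succ (Finset.card_singleton _).le)))))))))))))
    -- an element of order four
    have hfour : ∃ u ∈ T, ∃ v ∈ T, u * v = -(v * u) ∧ u * u = -1 := by
      rcases hsq g hgT with e | e
      · rcases hsq h hhT with e' | e'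
        · refine ⟨g * h, mul_mem hgT hhT, h, hhT, ?_, ?_⟩
          · calc g * h * h = -(h * g) * h := by rw [hanti]
              _ = -(h * (g * h)) := by rw [neg_mul, mul_assoc]
          · rw [show g * h * (g * h) = g * (h * g) * h by group,
              show h * g = -(g * h) by rw [hanti, neg_neg], mul_neg, neg_mul,
              show g * (g * h) * h = g * g * (h * h) by group, e, e', one_mul]
        · exact ⟨h, hhT, g, hgT, by rw [hanti, neg_neg], e'⟩
      · exact ⟨g, hgT, h, hhT, hanti, e⟩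
    obtain ⟨y, hyT, k, hkT, hyk, hyy⟩ := hfour
    have hord : orderOf y = 2 ^ 2 := by
      haveI : Fact (Nat.Prime 2) := ⟨Nat.prime_two⟩
      refine orderOf_eq_prime_pow (n := 1) (by rw [pow_one, pow_two, hyy]; exact hne) ?_
      rw [show 2 ^ (1 + 1) = 2 + 2 from rfl, pow_add, pow_two, hyy]; simp
    have hky : k ∉ Subgroup.zpowers y := fun hk => by
      obtain ⟨j, rfl⟩ := Subgroup.mem_zpowers_iff.1 hk
      exact hns hyk (by
        exfalso
        have hc : y * y ^ j = y ^ j * y := (Commute.self_zpow y j).eq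
        rw [hc] at hyk
        have e' : (1 : GL (Fin 2) F) = -1 := mul_right_cancel (b := y ^ j * y) (by rw [one_mul, neg_one_mul, ← hyk])
        exact hne e'.symm)
    have hc8 : Nat.card T = 8 := by
      haveI : Fact (Nat.Prime 2) := ⟨Nat.prime_two⟩
      refine le_antisymm hcard ?_
      obtain ⟨m, hm⟩ := IsPGroup.iff_card.1 hT
      have hlt : Nat.card (Subgroup.zpowers y) < Nat.card T := by
        refine lt_of_le_of_ne (Subgroup.card_le_of_le (Subgroup.zpowers_le.2 hyT)) fun e => hky ?_
        rw [Subgroup.eq_of_le_of_card_ge (Subgroup.zpowers_le.2 hyT) e.ge]; exact hkT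
      rw [Nat.card_zpowers, hord, hm] at hlt
      have : 2 < m := (Nat.pow_lt_pow_iff_right (by norm_num)).1 hlt
      rw [hm]
      exact (show 2 ^ 3 ≤ 2 ^ m from Nat.pow_le_pow_right (by norm_num) this)
    refine ⟨2, y, k, le_rfl, hyT, hkT, hord, by rw [show 2 ^ (2 - 1) = 2 from rfl, pow_two, hyy], hky,
      by rw [hc8]; norm_num, Or.inl ?_, hsq k hkT, fun hh => absurd hh (by norm_num)⟩
    have hyinv : y⁻¹ = -y := inv_eq_of_mul_eq_one_right (by rw [mul_neg, hyy, neg_neg])
    have hkyk : k * y = -(y * k) := by rw [hyk, neg_neg]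
    rw [hkyk, neg_mul, mul_inv_cancel_right, hyinv]

end Cfsg.Agent.Mitchell
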