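import Cfsg.Agent.Lib.Mitchell.Free.Local
import Cfsg.Agent.Lib.Mitchell.Free.TwoShape
import Cfsg.Agent.Lib.PSL2.Groups
import Cfsg.Agent.Lib.PGroup.CyclicMaximal
import Cfsg.Agent.Lib.Transfer.Criteria
import Cfsg.Agent.Lib.OddOrderTheorem.Basic
import Cfsg.Agent.S0201
import Cfsg.Agent.S0483
import Cfsg.Agent.S3225

/-!
# A simple transvection-free group is `PSL₂(q)` or `A₇`

* `comm_of_step`, `trace_zero` : small facts
* `Ctx.twoEmb` : a Sylow 2-subgroup inside the group induced on an axis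
* `Ctx.not_abelian_four`, `Ctx.sylow_dihedral` : the Sylow 2-subgroups are dihedral
* `Ctx.psl_or_altSeven`
-/

set_option autoImplicit false
set_option linter.unusedSectionVars false

namespace Cfsg.Agent.Mitchell

open Cfsg.Agent.SL3Max Cfsg.Agent.Transvect Matrix
open scoped commutatorElement

universe u

/-- An element of odd order moving `x` by a central involution it fixes, centralises `x`. -/
lemma comm_of_step {X : Type*} [Group X] {y x e : X} (hy : Odd (orderOf y)) (he : e * e = 1)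
    (hye : y * e * y⁻¹ = e) (h : y * x * y⁻¹ = x * e) : y * x = x * y := by
  have key : ∀ n : ℕ, y ^ n * x * (y ^ n)⁻¹ = x * e ^ n := by
    intro n
    induction n with
    | zero => simp
    | succ n ih =>
      have hp : y * e ^ n * y⁻¹ = e ^ n := by rw [← conj_pow, hye]
      calc y ^ (n + 1) * x * (y ^ (n + 1))⁻¹ = y * (y ^ n * x * (y ^ n)⁻¹) * y⁻¹ := by
            rw [pow_succ']; group
        _ = y * x * y⁻¹ * (y * e ^ n * y⁻¹) := by rw [ih]; group
        _ = x * e ^ (n + 1) := by rw [h, hp, mul_assoc, ← pow_succ']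
  have h1 := key (orderOf y)
  rw [pow_orderOf_eq_one, one_mul, inv_one, mul_one, left_eq_mul] at h1
  obtain ⟨k, hk⟩ := hy
  rw [hk, pow_succ, pow_mul, pow_two, he, one_pow, one_mul] at h1
  rw [h1, mul_one] at h
  exact mul_inv_eq_iff_eq_mul.1 h

variable {F : Type u} [Field F]

/-- A non-scalar matrix with scalar square has trace zero. -/
lemma trace_zero {z : GL (Fin 2) F} (hz2 : Sc (z * z)) (hz : ¬ Sc z) :
    (z : Matrix (Fin 2) (Fin 2) F).trace = 0 := by
  obtain ⟨c, hc⟩ := hz2
  by_contra ht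
  rw [Units.val_mul, sq_eq_trace, sub_eq_iff_eq_add, ← add_smul] at hc
  exact hz ⟨(c + (z : Matrix (Fin 2) (Fin 2) F).det) / (z : Matrix (Fin 2) (Fin 2) F).trace,
    smul_right_injective _ ht (by
      show _ • _ = _ • _
      rw [hc, smul_smul, mul_div_cancel₀ _ ht])⟩

/-- Commuting non-scalar elements with scalar squares agree up to sign. -/
lemma pm_of_comm (h2 : (2 : F) ≠ 0) {M : Subgroup (GL (Fin 2) F)}
    (hs : ∀ x ∈ M, Sc x → (x : Matrix (Fin 2) (Fin 2) F) = 1 ∨ (x : Matrix (Fin 2) (Fin 2) F) = -1)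
    {a b : GL (Fin 2) F} (ha : a ∈ M) (hb : b ∈ M) (ha2 : Sc (a * a)) (ha' : ¬ Sc a) (hb2 : Sc (b * b))
    (hb' : ¬ Sc b) (hc : a * b = b * a) : b = a ∨ b = -a := by
  obtain ⟨k, hk⟩ := prop_of_comm h2 (trace_zero ha2 ha') (trace_zero hb2 hb') (fun e => a.ne_zero e)
    (by rw [← Units.val_mul, ← Units.val_mul, hc])
  have hsc : Sc (a⁻¹ * b) := ⟨k, by
    rw [Units.val_mul, hk, mul_smul_comm, ← Units.val_mul, inv_mul_cancel, Units.val_one]⟩
  rcases hs _ (mul_mem (inv_mem ha) hb) hsc with h | h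
  · exact Or.inl (inv_mul_eq_one.1 (Units.ext h)).symm
  · right
    have h' : a⁻¹ * b = -1 := Units.ext (by rw [h, Units.val_neg, Units.val_one])
    rw [inv_mul_eq_iff_eq_mul] at h'
    rw [h', mul_neg, mul_one]

variable [Finite F] {G : Subgroup (GL (Fin 3) F)}

namespace Ctx

variable (C : Ctx G)
include C

lemma even_card : 2 ∣ Nat.card (Sq G) := by
  haveI := C.simple
  by_contra h
  haveI := OddOrderTheorem.solvable (G := Sq G) (Nat.odd_iff.2 (Nat.two_dvd_ne_zero.1 h))
  exact C.nonab ⟨⟨fun a b => IsSimpleGroup.comm_iff_isSolvable.2 inferInstance a b⟩⟩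

lemma normal_odd {N : Subgroup (Sq G)} (hN : N.Normal) (ho : Odd (Nat.card N)) : N = ⊥ := by
  haveI := C.simple
  rcases hN.eq_bot_or_eq_top with h | h
  · exact h
  · rw [h, Subgroup.card_top] at ho
    obtain ⟨j, hj⟩ := ho
    have := C.even_card
    omega

lemma no_index_two (H : Subgroup (Sq G)) : H.index ≠ 2 := by
  intro hH
  haveI := C.simple
  rcases (Subgroup.normal_of_index_eq_two hH).eq_bot_or_eq_top with h | h
  · rw [h, Subgroup.index_bot] at hH
    haveI := Fact.mk Nat.prime_two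
    haveI := isCyclic_of_prime_card (α := Sq G) hH
    exact C.nonab ⟨⟨fun a b => IsCyclic.commGroup.mul_comm a b⟩⟩
  · rw [h, Subgroup.index_top] at hH
    omega

/-- A Sylow 2-subgroup inside the group induced on the axis of a central involution. -/
theorem twoEmb (S : Sylow 2 (Sq G)) :
    ∃ (P : GL (Fin 3) F) (ht : tP P ∈ G) (φ : ↥(S : Subgroup (Sq G)) →* GL (Fin 2) F)
      (ec : ↥(Subgroup.centralizer ({pr G ⟨tP P, ht⟩} : Set (Sq G))) ≃* ↥(rho C.two_ne G P).range)
      (hle : (S : Subgroup (Sq G)) ≤ Subgroup.centralizer {pr G ⟨tP P, ht⟩})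
      (htS : pr G ⟨tP P, ht⟩ ∈ (S : Subgroup (Sq G))),
      Function.Injective φ ∧ φ.range ≤ (rho C.two_ne G P).range ∧ φ ⟨_, htS⟩ = -1 ∧
      ∀ x : ↥(S : Subgroup (Sq G)), φ x = (ec ⟨x.1, hle x.2⟩ : GL (Fin 2) F) := by
  haveI : Fact (Nat.Prime 2) := ⟨Nat.prime_two⟩
  haveI : Nontrivial (S : Subgroup (Sq G)) := Finite.one_lt_card_iff_nontrivial.1
    (Nat.le_of_dvd Nat.card_pos (S.dvd_card_of_dvd_card C.even_card))
  haveI := S.2.center_nontrivial
  obtain ⟨k, hk⟩ := IsPGroup.iff_card.1 (S.2.to_subgroup (Subgroup.center (S : Subgroup (Sq G))))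
  have hk0 : k ≠ 0 := fun h => by
    rw [h, pow_zero] at hk
    exact absurd hk (ne_of_gt Finite.one_lt_card)
  obtain ⟨⟨⟨z, hzS⟩, hzc⟩, hz⟩ := exists_prime_orderOf_dvd_card' (G := Subgroup.center (S : Subgroup (Sq G)))
    2 (hk ▸ dvd_pow_self 2 hk0)
  rw [Subgroup.orderOf_mk, Subgroup.orderOf_mk] at hz
  obtain ⟨P, ht, rfl⟩ := C.exists_lift hz
  obtain ⟨ec, hec⟩ := C.cent_equiv ht
  have hle : (S : Subgroup (Sq G)) ≤ Subgroup.centralizer {pr G ⟨tP P, ht⟩} := fun x hx =>
    Subgroup.mem_centralizer_singleton_iff.2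
      (congrArg Subtype.val (Subgroup.mem_center_iff.1 hzc ⟨x, hx⟩))
  refine ⟨P, ht, ((rho C.two_ne G P).range.subtype.comp ec.toMonoidHom).comp (Subgroup.inclusion hle),
    ec, hle, hzS, ?_, ?_, ?_, fun x => rfl⟩
  · intro a b h
    exact Subgroup.inclusion_injective hle (ec.injective (Subtype.ext h))
  · rintro _ ⟨x, rfl⟩
    exact (ec _).2
  · show ((ec ⟨_, hle hzS⟩ : (rho C.two_ne G P).range) : GL (Fin 2) F) = -1
    rw [hec ⟨tP P, tP_mem_DP ht⟩ (hle hzS), rho_tP C.two_ne ht]

/-- An abelian Sylow 2-subgroup has exponent two. -/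
theorem abelian_exp_two (S : Sylow 2 (Sq G)) (hab : ∀ a b : ↥(S : Subgroup (Sq G)), a * b = b * a) :
    ∀ a : ↥(S : Subgroup (Sq G)), a * a = 1 := by
  haveI : Fact (Nat.Prime 2) := ⟨Nat.prime_two⟩
  haveI := C.simple
  haveI : IsMulCommutative (S : Subgroup (Sq G)) := ⟨⟨hab⟩⟩
  by_contra hne
  push Not at hne
  obtain ⟨P, ht, φ, -, -, htS, hinj, hrange, hφt, -⟩ := C.twoEmb S
  have hs : ∀ x ∈ (rho C.two_ne G P).range, Sc x →
      (x : Matrix (Fin 2) (Fin 2) F) = 1 ∨ (x : Matrix (Fin 2) (Fin 2) F) = -1 := fun x hx h =>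
    C.scalars_pm hx h
  set t : ↥(S : Subgroup (Sq G)) := ⟨_, htS⟩ with htdef
  have hmem : ∀ a, φ a ∈ (rho C.two_ne G P).range := fun a => hrange ⟨a, rfl⟩
  have hsc : ∀ a, Sc (φ a) → a = 1 ∨ a = t := fun a h => (hs _ (hmem a) h).imp
    (fun e => hinj (by rw [map_one]; exact Units.ext e))
    (fun e => hinj (by rw [hφt]; exact Units.ext (by rw [e, Units.val_neg, Units.val_one])))
  have hφ2 : ∀ a, a * a = 1 ∨ a * a = t → Sc (φ a * φ a) := fun a h => by
    rw [← map_mul]
    rcases h with h | h <;> rw [h]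
    · rw [map_one]; exact sc_one
    · rw [hφt]; exact ⟨-1, by simp⟩
  -- commuting square roots of `1` and `t`
  have hroot : ∀ a b, (a * a = 1 ∨ a * a = t) → a ≠ 1 → a ≠ t → (b * b = 1 ∨ b * b = t) → b ≠ 1 →
      b ≠ t → b = a ∨ b = t * a := by
    intro a b ha ha1 hat hb hb1 hbt
    rcases pm_of_comm C.two_ne hs (hmem a) (hmem b) (hφ2 a ha) (fun h => (hsc a h).elim ha1 hat)
      (hφ2 b hb) (fun h => (hsc b h).elim hb1 hbt) (by rw [← map_mul, hab, map_mul]) with h | h
    · exact Or.inl (hinj h)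
    · exact Or.inr (hinj (by rw [h, map_mul, hφt, neg_one_mul]))
  have htt : t * t = 1 := hinj (by rw [map_mul, hφt, map_one, neg_mul_neg, one_mul])
  have ht1 : t ≠ 1 := fun h => by
    rw [h, map_one] at hφt
    have := congrArg (fun g : GL (Fin 2) F => (g : Matrix (Fin 2) (Fin 2) F) 0 0) hφt
    simp at this
    exact C.two_ne (by linear_combination this)
  have hmm : ∀ a b : ↥(S : Subgroup (Sq G)), a * b * (a * b) = a * a * (b * b) := fun a b => by
    rw [mul_assoc, ← mul_assoc b a b, hab b a, mul_assoc a b b, ← mul_assoc]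
  -- an involution which is a square
  obtain ⟨x, hx⟩ := hne
  obtain ⟨k, hk⟩ := IsPGroup.iff_orderOf.1 S.2 x
  have hk2 : 2 ≤ k := by
    by_contra hlt
    apply hx
    rw [← pow_two, ← orderOf_dvd_iff_pow_eq_one, hk]
    exact (pow_dvd_pow 2 (show k ≤ 1 by omega)).trans (by norm_num)
  obtain ⟨w, hwdef⟩ : ∃ w, w = x ^ 2 ^ (k - 2) := ⟨_, rfl⟩
  have hw : w * w ≠ 1 := by
    rw [hwdef, ← pow_add, show 2 ^ (k - 2) + 2 ^ (k - 2) = 2 ^ (k - 1) by
      rw [show k - 1 = k - 2 + 1 by omega, pow_succ]; ring]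
    intro h
    have := orderOf_dvd_of_pow_eq_one h
    rw [hk, Nat.pow_dvd_pow_iff_le_right (by norm_num)] at this
    omega
  have hw4 : w * w * (w * w) = 1 := by
    rw [← pow_two, ← pow_two, ← pow_mul, hwdef, ← pow_mul,
      show 2 ^ (k - 2) * (2 * 2) = 2 ^ k by rw [show k = k - 2 + 2 by omega, pow_add]; simp,
      ← hk, pow_orderOf_eq_one]
  -- every automorphism of odd order fixes the involutions
  have hfix : ∀ y : Sq G, Odd (orderOf y) →
      ∀ (hy : ∀ a : ↥(S : Subgroup (Sq G)), y * a.1 * y⁻¹ ∈ (S : Subgroup (Sq G))),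
      ∀ a : ↥(S : Subgroup (Sq G)), a * a = 1 → y * a.1 * y⁻¹ = a.1 := by
    intro y hodd hy a ha
    let f : ↥(S : Subgroup (Sq G)) → ↥(S : Subgroup (Sq G)) := fun b => ⟨y * b.1 * y⁻¹, hy b⟩
    have hfm : ∀ b c, f (b * c) = f b * f c := fun b c => Subtype.ext (by
      show y * (b.1 * c.1) * y⁻¹ = y * b.1 * y⁻¹ * (y * c.1 * y⁻¹); group)
    have hf1 : ∀ b, f b = 1 → b = 1 := fun b h => Subtype.ext (by
      have h' : y * b.1 * y⁻¹ = 1 := congrArg Subtype.val h
      exact conj_eq_one_iff.1 h')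
    have hfinj : ∀ b c, f b = f c → b = c := fun b c h => Subtype.ext
      (mul_left_cancel (mul_right_cancel (congrArg Subtype.val h : y * b.1 * y⁻¹ = y * c.1 * y⁻¹)))
    have hone : f 1 = 1 := Subtype.ext (by show y * 1 * y⁻¹ = 1; group)
    by_cases hu : ∀ b : ↥(S : Subgroup (Sq G)), b * b = 1 → b = 1 ∨ b = t
    · rcases hu a ha with rfl | rfl
      · show y * 1 * y⁻¹ = 1; group
      · rcases hu (f t) (by rw [← hfm, htt, hone]) with h | h
        · exact absurd (hf1 _ h) ht1
        · exact congrArg Subtype.val h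
    push Not at hu
    obtain ⟨v, hv, hv1, hvt⟩ := hu
    -- then `t` is not a square
    have hnsq : ∀ b, b * b ≠ t := by
      intro b hb
      have hb1 : b ≠ 1 := by
        rintro rfl
        rw [one_mul] at hb
        exact ht1 hb.symm
      have hbt : b ≠ t := by
        rintro rfl
        rw [htt] at hb
        exact ht1 hb.symm
      have hbb : b * b = 1 := by
        rcases hroot v b (Or.inl hv) hv1 hvt (Or.inr hb) hb1 hbt with rfl | rfl
        · exact hv
        · rw [hmm, htt, hv, one_mul]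
      exact ht1 (hb.symm.trans hbb)
    -- the square involution is fixed
    have hwt : w * w ≠ t := hnsq w
    have hfw : f (w * w) = w * w := by
      have h1 : f (w * w) ≠ 1 := fun h => hw (hf1 _ h)
      have h2 : f (w * w) ≠ t := fun h => hnsq (f w) (by rw [← hfm, h])
      rcases hroot (w * w) (f (w * w)) (Or.inl hw4) hw hwt (Or.inl (by rw [← hfm, hw4, hone])) h1 h2
        with h | h
      · exact h
      · exfalso
        apply hnsq (f w * w⁻¹)
        rw [hmm, ← hfm, h, ← _root_.mul_inv_rev, mul_assoc, mul_inv_cancel, mul_one]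
    have hft : f t = t := by
      by_contra hne'
      have h1 : f t ≠ 1 := fun h => ht1 (hf1 _ h)
      rcases hroot (w * w) (f t) (Or.inl hw4) hw hwt (Or.inl (by rw [← hfm, htt, hone])) h1 hne' with h | h
      · exact hwt (hfinj _ _ (hfw.trans h.symm))
      · have := comm_of_step (x := t.1) (e := (w * w).1) hodd (congrArg Subtype.val hw4)
          (congrArg Subtype.val hfw) (congrArg Subtype.val h :)
        exact hne' (Subtype.ext (mul_inv_eq_iff_eq_mul.2 this))
    by_cases ha1 : a = 1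
    · subst ha1; show y * 1 * y⁻¹ = 1; group
    by_cases hat : a = t
    · subst hat; exact congrArg Subtype.val hft
    rcases hroot (w * w) a (Or.inl hw4) hw hwt (Or.inl ha) ha1 hat with rfl | rfl
    · exact congrArg Subtype.val hfw
    · refine congrArg Subtype.val (show f (t * (w * w)) = t * (w * w) from ?_)
      rw [hfm, hft, hfw]
  -- hence Burnside's transfer applies
  have hN : Subgroup.normalizer ((S : Subgroup (Sq G)) : Set (Sq G)) ≤
      Subgroup.centralizer ((S : Subgroup (Sq G)) : Set (Sq G)) := by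
    refine Transfer.normalizer_le_centralizer_of_primePow S ?_
    intro q hq hq2 _ y hy hyq
    obtain ⟨m, hm⟩ := hyq
    have hodd : Odd (orderOf y) := hm ▸ (hq.odd_of_ne_two hq2).pow
    have hyS : ∀ a : ↥(S : Subgroup (Sq G)), y * a.1 * y⁻¹ ∈ (S : Subgroup (Sq G)) := fun a =>
      (Subgroup.mem_normalizer_iff.1 hy a.1).1 a.2
    have key : ∀ k, ∀ a : ↥(S : Subgroup (Sq G)), a ^ 2 ^ k = 1 → y * a.1 * y⁻¹ = a.1 := by
      intro k
      induction k with
      | zero =>
        intro a ha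
        rw [pow_zero, pow_one] at ha
        subst ha
        show y * 1 * y⁻¹ = 1; group
      | succ k ih =>
        intro a ha
        have hsq := ih (a * a) (by rw [← pow_two, ← pow_mul, ← pow_succ']; exact ha)
        let b : ↥(S : Subgroup (Sq G)) := ⟨y * a.1 * y⁻¹, hyS a⟩
        have hb : b * b = a * a := Subtype.ext (by
          show y * a.1 * y⁻¹ * (y * a.1 * y⁻¹) = a.1 * a.1
          calc _ = y * (a.1 * a.1) * y⁻¹ := by group
            _ = _ := hsq)
        have he : a⁻¹ * b * (a⁻¹ * b) = 1 := by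
          rw [hmm, hb, ← _root_.mul_inv_rev, inv_mul_cancel]
        refine mul_inv_eq_iff_eq_mul.2 (comm_of_step (e := (a⁻¹ * b).1) hodd (congrArg Subtype.val he)
          (hfix y hodd hyS _ he) ?_)
        show y * a.1 * y⁻¹ = a.1 * (a.1⁻¹ * (y * a.1 * y⁻¹))
        group
    refine Subgroup.mem_centralizer_iff.2 fun a ha => ?_
    obtain ⟨k, hk⟩ := IsPGroup.iff_orderOf.1 S.2 ⟨a, ha⟩
    exact (mul_inv_eq_iff_eq_mul.1 (key k ⟨a, ha⟩ (hk ▸ pow_orderOf_eq_one _))).symm
  have hcompl := MonoidHom.ker_transferSylow_isComplement' S hN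
  rcases (inferInstance : (MonoidHom.transferSylow S hN).ker.Normal).eq_bot_or_eq_top with h | h
  · rw [h] at hcompl
    have htop : (S : Subgroup (Sq G)) = ⊤ := by
      have := hcompl.card_mul
      rw [Subgroup.card_bot, one_mul] at this
      exact Subgroup.eq_top_of_card_eq _ this
    exact C.nonab ⟨⟨fun a b => congrArg Subtype.val (hab ⟨a, htop ▸ Subgroup.mem_top a⟩ ⟨b, htop ▸ Subgroup.mem_top b⟩)⟩⟩
  · rw [h, Subgroup.isComplement'_top_left] at hcompl
    have := S.dvd_card_of_dvd_card C.even_card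
    rw [show (S : Subgroup (Sq G)) = ⊥ from hcompl, Subgroup.card_bot] at this
    norm_num at this

/-- The Sylow 2-subgroups are dihedral. -/
theorem sylow_dihedral (S : Sylow 2 (Sq G)) :
    ∃ n, 2 ≤ n ∧ Nonempty (↥(S : Subgroup (Sq G)) ≃* DihedralGroup n) := by
  haveI : Fact (Nat.Prime 2) := ⟨Nat.prime_two⟩
  haveI := C.simple
  obtain ⟨P, ht, φ, ec, hle, htS, hinj, hrange, hφt, hφ⟩ := C.twoEmb S
  set t : ↥(S : Subgroup (Sq G)) := ⟨_, htS⟩ with htdef
  have hs : ∀ x ∈ (rho C.two_ne G P).range, Sc x →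
      (x : Matrix (Fin 2) (Fin 2) F) = 1 ∨ (x : Matrix (Fin 2) (Fin 2) F) = -1 := fun x hx h =>
    C.scalars_pm hx h
  have htt : t * t = 1 := hinj (by rw [map_mul, hφt, map_one, neg_mul_neg, one_mul])
  have ht1 : t ≠ 1 := fun h => by
    rw [h, map_one] at hφt
    have := congrArg (fun g : GL (Fin 2) F => (g : Matrix (Fin 2) (Fin 2) F) 0 0) hφt
    simp at this
    exact C.two_ne (by linear_combination this)
  by_cases hab : ∀ a b : ↥(S : Subgroup (Sq G)), a * b = b * a
  · have he := C.abelian_exp_two S hab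
    have hmem : ∀ a, φ a ∈ (rho C.two_ne G P).range := fun a => hrange ⟨a, rfl⟩
    by_cases hu : ∀ a : ↥(S : Subgroup (Sq G)), a = 1 ∨ a = t
    · exfalso
      haveI : IsMulCommutative (S : Subgroup (Sq G)) := ⟨⟨hab⟩⟩
      have hN : Subgroup.normalizer ((S : Subgroup (Sq G)) : Set (Sq G)) ≤
          Subgroup.centralizer ((S : Subgroup (Sq G)) : Set (Sq G)) := by
        intro y hy
        refine Subgroup.mem_centralizer_iff.2 fun a ha => ?_
        rcases hu ⟨a, ha⟩ with h | h
        · rw [show a = 1 from congrArg Subtype.val h, one_mul, mul_one]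
        · rw [show a = t.1 from congrArg Subtype.val h]
          rcases hu ⟨y * t.1 * y⁻¹, (Subgroup.mem_normalizer_iff.1 hy t.1).1 t.2⟩ with h' | h'
          · exact absurd (Subtype.ext (conj_eq_one_iff.1 (congrArg Subtype.val h'))) ht1
          · exact (mul_inv_eq_iff_eq_mul.1 (congrArg Subtype.val h')).symm
      have hcompl := MonoidHom.ker_transferSylow_isComplement' S hN
      rcases (inferInstance : (MonoidHom.transferSylow S hN).ker.Normal).eq_bot_or_eq_top with h | h
      · rw [h] at hcompl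
        have htop : (S : Subgroup (Sq G)) = ⊤ := by
          have := hcompl.card_mul
          rw [Subgroup.card_bot, one_mul] at this
          exact Subgroup.eq_top_of_card_eq _ this
        exact C.nonab ⟨⟨fun a b => congrArg Subtype.val
          (hab ⟨a, htop ▸ Subgroup.mem_top a⟩ ⟨b, htop ▸ Subgroup.mem_top b⟩)⟩⟩
      · rw [h, Subgroup.isComplement'_top_left] at hcompl
        exact ht1 (Subtype.ext (by simpa [show (S : Subgroup (Sq G)) = ⊥ from hcompl] using t.2))
    push Not at hu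
    obtain ⟨v, hv1, hvt⟩ := hu
    have hvsc : ¬ Sc (φ v) := fun h => by
      rcases hs _ (hmem v) h with e | e
      · exact hv1 (hinj (by rw [map_one]; exact Units.ext e))
      · exact hvt (hinj (by rw [hφt]; exact Units.ext (by rw [e, Units.val_neg, Units.val_one])))
    have hall : ∀ a, a = 1 ∨ a = t ∨ a = v ∨ a = t * v := fun a => by
      by_cases hsc : Sc (φ a)
      · rcases hs _ (hmem a) hsc with e | e
        · exact Or.inl (hinj (by rw [map_one]; exact Units.ext e))
        · exact Or.inr (Or.inl (hinj (by rw [hφt]; exact Units.ext (by rw [e, Units.val_neg, Units.val_one]))))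
      rcases pm_of_comm C.two_ne hs (hmem v) (hmem a) (by rw [← map_mul, he, map_one]; exact sc_one) hvsc
        (by rw [← map_mul, he, map_one]; exact sc_one) hsc (by rw [← map_mul, hab, map_mul]) with h | h
      · exact Or.inr (Or.inr (Or.inl (hinj h)))
      · exact Or.inr (Or.inr (Or.inr (hinj (by rw [h, map_mul, hφt, neg_one_mul]))))
    refine ⟨2, le_rfl, PSL2.mulEquiv_dihedral ?_ le_rfl t v (orderOf_eq_prime (by rw [pow_two, htt]) ht1)
      (orderOf_eq_prime (by rw [pow_two, he]) hv1) ?_ ?_⟩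
    · classical
      haveI := Fintype.ofFinite ↥(S : Subgroup (Sq G))
      have hnd : ({1, t, v, t * v} : Finset ↥(S : Subgroup (Sq G))).card = 4 := by
        have h1 : (1 : ↥(S : Subgroup (Sq G))) ≠ t * v := fun h => hvt (by
          calc v = t * t * v := by rw [htt, one_mul]
            _ = t * (t * v) := mul_assoc _ _ _
            _ = t := by rw [← h, mul_one])
        have h2 : t ≠ t * v := fun h => hv1 (left_eq_mul.1 h)
        have h3 : v ≠ t * v := fun h => ht1 (right_eq_mul.1 h)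
        simp [Finset.card_insert_of_notMem, Ne.symm hv1, Ne.symm ht1, Ne.symm hvt, h1, h2, h3, hv1, ht1]
      rw [Nat.card_eq_fintype_card, ← Finset.card_univ, show (2 * 2 : ℕ) = 4 from rfl, ← hnd]
      congr 1
      ext a
      simpa using hall a
    · rw [inv_eq_of_mul_eq_one_right htt, hab v t, mul_assoc, he, mul_one]
    · intro h
      obtain ⟨j, hj⟩ := Subgroup.mem_zpowers_iff.1 h
      rcases Int.even_or_odd j with ⟨i, rfl⟩ | ⟨i, rfl⟩
      · rw [_root_.zpow_add, ← (Commute.refl t).mul_zpow, htt, _root_.one_zpow] at hj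
        exact hv1 hj.symm
      · rw [_root_.zpow_add, _root_.zpow_mul, zpow_two, htt, _root_.one_zpow, one_mul, zpow_one] at hj
        exact hvt hj.symm
  push Not at hab
  obtain ⟨a, b, hne⟩ := hab
  haveI : Finite φ.range := Finite.of_surjective φ.rangeRestrict φ.rangeRestrict_surjective
  have hnp : ¬ Poly φ.range := fun ⟨x, hx, y, hy, h⟩ => C.no_poly ht ⟨x, hrange hx, y, hrange hy, h⟩
  obtain ⟨n, y, h, hn, hy, hh, hordy, hhalf, hnot, hcard, hrel, hh2, hnsc⟩ := two_shape C.two_ne
    (T := φ.range) (S.2.of_surjective φ.rangeRestrict φ.rangeRestrict_surjective) ⟨t, hφt⟩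
    (fun x hx => hs x (hrange hx)) hnp ⟨φ a, ⟨a, rfl⟩, φ b, ⟨b, rfl⟩, fun e => hne (hinj (by rw [map_mul, map_mul, e]))⟩
  obtain ⟨y, rfl⟩ := hy
  obtain ⟨h, rfl⟩ := hh
  rw [orderOf_injective φ hinj] at hordy
  have hpow : y ^ 2 ^ (n - 1) = t := hinj (by rw [map_pow, hhalf, hφt])
  have hnot' : h ∉ Subgroup.zpowers y := fun hm => hnot (by
    obtain ⟨j, rfl⟩ := Subgroup.mem_zpowers_iff.1 hm
    rw [map_zpow]
    exact Subgroup.zpow_mem_zpowers _ _)
  have hcardS : Nat.card ↥(S : Subgroup (Sq G)) = 2 ^ (n + 1) := by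
    rw [← hcard]; exact Nat.card_congr (MonoidHom.ofInjective hinj).toEquiv
  have htc : ∀ s : ↥(S : Subgroup (Sq G)), t * s = s * t := fun s => hinj (by
    rw [map_mul, map_mul, hφt, neg_one_mul, mul_neg, mul_one])
  have hn2 : 2 * 2 ^ (n - 1) = 2 ^ n := by rw [← pow_succ']; congr 1; omega
  rcases hrel with hrel | hrel
  · have hrel' : h * y * h⁻¹ = y⁻¹ := hinj (by simpa using hrel)
    rcases hh2 with hh2 | hh2
    · -- dihedral
      have hh' : h * h = 1 := hinj (by simpa using hh2)
      refine ⟨2 ^ n, (Nat.le_self_pow (by omega) 2), PSL2.mulEquiv_dihedral (by rw [hcardS, pow_succ, mul_comm])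
        (Nat.le_self_pow (by omega) 2) y h hordy
        (orderOf_eq_prime (by rw [pow_two, hh']) (fun e => hnot' (e ▸ one_mem _))) ?_ hnot'⟩
      rw [← hrel', inv_eq_of_mul_eq_one_right hh']
    · -- generalised quaternion
      exfalso
      have hh' : h * h = t := hinj (by rw [map_mul, hh2, hφt])
      obtain ⟨e⟩ := PGroup.quaternionEquivOfGen (G := ↥(S : Subgroup (Sq G))) (N := 2 ^ (n - 1)) (a := y) (b := h)
        (by rw [hordy, hn2]) (by rw [pow_two, hh', hpow]) hrel' hnot'
        (by rw [hcardS, show 4 * 2 ^ (n - 1) = 2 * (2 * 2 ^ (n - 1)) by ring, hn2, pow_succ'])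
      obtain ⟨m, rfl⟩ : ∃ m, n = m + 2 := ⟨n - 2, by omega⟩
      have hc := S0201.result S m e.symm (fun N hN ho => C.normal_odd hN ho)
      rw [C.center_eq_bot, Subgroup.card_bot] at hc
      norm_num at hc
  · -- semidihedral
    exfalso
    have hrel' : h * y * h⁻¹ = y⁻¹ * t := hinj (by
      rw [map_mul, map_mul, map_inv, hrel, map_mul, map_inv, hφt, mul_neg, mul_one])
    have hidx : (Subgroup.zpowers y).index = 2 := by
      have h1 := Subgroup.card_mul_index (Subgroup.zpowers y)
      rw [Nat.card_zpowers, hordy, hcardS, pow_succ] at h1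
      exact Nat.eq_of_mul_eq_mul_left (by positivity) h1
    have hn3 : 3 ≤ n := by
      by_contra hlt
      obtain rfl : n = 2 := by omega
      have hyt : y * y = t := by rw [← hpow, show 2 ^ (2 - 1) = 2 from rfl, pow_two]
      have hc : h * y = y * h := by
        rw [← mul_inv_eq_iff_eq_mul, hrel', ← hyt]; group
      apply hne
      have hall : ∀ s : ↥(S : Subgroup (Sq G)), y * s = s * y := fun s => by
        by_cases hm : s ∈ Subgroup.zpowers y
        · obtain ⟨j, rfl⟩ := Subgroup.mem_zpowers_iff.1 hm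
          exact (Commute.self_zpow y j).eq
        · have hhs : h * s ∈ Subgroup.zpowers y := by
            rw [Subgroup.mul_mem_iff_of_index_two hidx]; exact iff_of_false hnot' hm
          obtain ⟨j, hj⟩ := Subgroup.mem_zpowers_iff.1 hhs
          have hs' : s = h⁻¹ * y ^ j := by rw [hj, inv_mul_cancel_left]
          rw [hs']
          exact ((Commute.inv_left hc).symm.mul_right (Commute.self_zpow y j)).eq
      have hyns : ¬ Sc (φ y) := fun hsc => by
        rcases hs _ (hrange ⟨y, rfl⟩) hsc with e | e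
        · rw [show y = 1 from hinj (by rw [map_one]; exact Units.ext e), orderOf_one] at hordy
          norm_num at hordy
        · have : y = t := hinj (by rw [hφt]; exact Units.ext (by rw [e, Units.val_neg, Units.val_one]))
          rw [this, htt] at hyt
          exact ht1 hyt.symm
      refine hinj ?_
      rw [map_mul, map_mul]
      exact commutant_comm hyns (by rw [← map_mul, hall, map_mul]) (by rw [← map_mul, hall, map_mul])
    obtain ⟨h, hrel', hh', hnot'⟩ : ∃ h', h' * y * h'⁻¹ = y⁻¹ * t ∧ h' * h' = 1 ∧ h' ∉ Subgroup.zpowers y := by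
      rcases hh2 with hh2 | hh2
      · exact ⟨h, hrel', hinj (by simpa using hh2), hnot'⟩
      · have hh' : h * h = t := hinj (by rw [map_mul, hh2, hφt])
        refine ⟨h * y, ?_, ?_, fun hm => hnot' (by simpa using mul_mem hm (inv_mem (Subgroup.mem_zpowers y)))⟩
        · rw [← hrel']; group
        · calc h * y * (h * y) = h * y * h⁻¹ * (h * h) * y := by group
            _ = y⁻¹ * (t * t) * y := by rw [hrel', hh']; group
            _ = 1 := by rw [htt]; group
    have hinv : h⁻¹ = h := inv_eq_of_mul_eq_one_right hh'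
    have hconj : ∀ j : ℤ, h * y ^ j * h = (y⁻¹) ^ j * t ^ j := fun j => by
      have e := _root_.conj_zpow (a := h) (b := y) (i := j)
      rw [hrel', (show Commute y⁻¹ t from Commute.inv_left (htc y).symm).mul_zpow, hinv] at e
      exact e.symm
    have hconj2 : ∀ j : ℤ, Even j → h * y ^ j * h = y ^ (-j) := fun j ⟨i, hi⟩ => by
      rw [hconj, _root_.inv_zpow, _root_.zpow_neg, hi, _root_.zpow_add t, ← (Commute.refl t).mul_zpow, htt,
        _root_.one_zpow, mul_one]
    have heven : ∀ i j : ℤ, y ^ i = y ^ j → Even i → Even j := fun i j hij hi => by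
      have hd : ((2 ^ n : ℕ) : ℤ) ∣ i - j := by
        rw [← hordy, orderOf_dvd_iff_zpow_eq_one, _root_.zpow_sub, hij, mul_inv_cancel]
      have h2 : (2 : ℤ) ∣ i - j := dvd_trans (by exact_mod_cast dvd_pow_self 2 (show n ≠ 0 by omega)) hd
      have := hi.two_dvd
      exact even_iff_two_dvd.2 (by omega)
    let M0 : Subgroup ↥(S : Subgroup (Sq G)) :=
      { carrier := {s | ∃ j : ℤ, Even j ∧ (s = y ^ j ∨ s = h * y ^ j)}
        one_mem' := ⟨0, Even.zero, Or.inl (zpow_zero y).symm⟩
        mul_mem' := by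
          rintro s r ⟨i, hi, rfl | rfl⟩ ⟨j, hj, rfl | rfl⟩
          · exact ⟨i + j, hi.add hj, Or.inl (_root_.zpow_add y i j).symm⟩
          · refine ⟨-i + j, hi.neg.add hj, Or.inr ?_⟩
            rw [_root_.zpow_add, ← hconj2 i hi]
            simp only [← mul_assoc, hh', one_mul]
          · exact ⟨i + j, hi.add hj, Or.inr (by rw [_root_.zpow_add, mul_assoc])⟩
          · refine ⟨-i + j, hi.neg.add hj, Or.inl ?_⟩
            rw [_root_.zpow_add, ← hconj2 i hi]
            simp only [mul_assoc]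
        inv_mem' := by
          rintro s ⟨i, hi, rfl | rfl⟩
          · exact ⟨-i, hi.neg, Or.inl (_root_.zpow_neg y i).symm⟩
          · refine ⟨i, hi, Or.inr ?_⟩
            rw [_root_.mul_inv_rev, hinv, ← _root_.zpow_neg, ← hconj2 i hi]
            simp only [mul_assoc, hh', mul_one] }
    have hform : ∀ s : ↥(S : Subgroup (Sq G)), ∃ j : ℤ, s = y ^ j ∨ s = h * y ^ j := fun s => by
      by_cases hm : s ∈ Subgroup.zpowers y
      · obtain ⟨j, rfl⟩ := Subgroup.mem_zpowers_iff.1 hm
        exact ⟨j, Or.inl rfl⟩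
      · have hhs : h * s ∈ Subgroup.zpowers y := by
          rw [Subgroup.mul_mem_iff_of_index_two hidx]; exact iff_of_false hnot' hm
        obtain ⟨j, hj⟩ := Subgroup.mem_zpowers_iff.1 hhs
        exact ⟨j, Or.inr (by rw [hj, ← mul_assoc, hh', one_mul])⟩
    have hnz : ∀ i j : ℤ, h * y ^ i ≠ y ^ j := fun i j e => hnot' (by
      rw [eq_mul_inv_of_mul_eq e, ← _root_.zpow_neg, ← _root_.zpow_add]
      exact Subgroup.zpow_mem_zpowers _ _)
    have hoddout : ∀ j : ℤ, Odd j → y ^ j ∉ M0 ∧ h * y ^ j ∉ M0 := fun j hj => by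
      refine ⟨?_, ?_⟩ <;> rintro ⟨i, hi, e | e⟩
      · exact (Int.not_even_iff_odd.2 hj) (heven i j e.symm hi)
      · exact hnz i j e.symm
      · exact hnz j i e
      · exact (Int.not_even_iff_odd.2 hj) (heven i j (mul_left_cancel e).symm hi)
    have hM0 : M0.index = 2 := by
      rw [Subgroup.index_eq_two_iff]
      refine ⟨y, fun s => ?_⟩
      obtain ⟨j, hj⟩ := hform s
      rcases Int.even_or_odd j with he | ho
      · refine Or.inr ⟨⟨j, he, hj⟩, fun hm => ?_⟩
        rcases hj with rfl | rfl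
        · rw [← _root_.zpow_add_one] at hm
          exact (hoddout _ he.add_one).1 hm
        · rw [mul_assoc, ← _root_.zpow_add_one] at hm
          exact (hoddout _ he.add_one).2 hm
      · refine Or.inl ⟨?_, fun hm => ?_⟩
        · refine ⟨j + 1, ho.add_one, ?_⟩
          rcases hj with rfl | rfl
          · exact Or.inl (_root_.zpow_add_one y j).symm
          · exact Or.inr (by rw [mul_assoc, ← _root_.zpow_add_one])
        · rcases hj with rfl | rfl
          · exact (hoddout j ho).1 hm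
          · exact (hoddout j ho).2 hm
    have hsq : ∀ j : ℤ, Odd j → h * y ^ j * (h * y ^ j) = t := fun j ⟨i, hi⟩ => by
      rw [show h * y ^ j * (h * y ^ j) = h * y ^ j * h * y ^ j by group, hconj, mul_assoc,
        ((show Commute t y from htc y).zpow_zpow j j).eq, ← mul_assoc,
        _root_.inv_zpow, inv_mul_cancel, one_mul, hi, _root_.zpow_add, _root_.zpow_mul, zpow_two, htt,
        _root_.one_zpow, one_mul, zpow_one]
    have hord : ∀ s, s ∉ M0 → 2 ^ (2 - 1) < orderOf s := fun s hs0 => by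
      obtain ⟨j, hj⟩ := hform s
      have ho : Odd j := (Int.even_or_odd j).resolve_left fun he => hs0 ⟨j, he, hj⟩
      have h1 : s ^ 2 ≠ 1 := by
        rcases hj with rfl | rfl
        · intro e
          rw [pow_two, ← _root_.zpow_add] at e
          have hd : ((2 ^ n : ℕ) : ℤ) ∣ j + j := by rw [← hordy]; exact orderOf_dvd_iff_zpow_eq_one.2 e
          have h4 : (4 : ℤ) ∣ j + j := dvd_trans (by exact_mod_cast (pow_dvd_pow 2 (show 2 ≤ n by omega))) hd
          obtain ⟨i, hi⟩ := ho
          omega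
        · rw [pow_two, hsq j ho]; exact ht1
      have hle := Nat.le_of_dvd (orderOf_pos s) dvd_rfl
      rcases Nat.lt_or_ge 2 (orderOf s) with hlt | hge
      · simpa using hlt
      · exfalso
        apply h1
        apply orderOf_dvd_iff_pow_eq_one.1
        have := orderOf_pos s
        interval_cases (orderOf s) <;> norm_num
    obtain ⟨g, hg⟩ := S3225.result (even_iff_two_dvd.2 C.even_card) C.no_index_two S (M0.map (S : Subgroup (Sq G)).subtype)
      (Subgroup.map_subtype_le M0)
      (by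
        show ((M0.map (S : Subgroup (Sq G)).subtype).comap (S : Subgroup (Sq G)).subtype).index = 2
        rw [Subgroup.comap_map_eq_self_of_injective (S : Subgroup (Sq G)).subtype_injective, hM0])
      2 (by norm_num)
      (fun s hs0 hsM => by
        rw [show s = ((⟨s, hs0⟩ : ↥(S : Subgroup (Sq G))) : Sq G) from rfl, Subgroup.orderOf_coe]
        exact hord _ fun hm => hsM ⟨_, hm, rfl⟩)
      ((h * y ^ (1 : ℤ) : ↥(S : Subgroup (Sq G))) : Sq G) (h * y ^ (1 : ℤ) : ↥(S : Subgroup (Sq G))).2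
      (by
        rw [Subgroup.orderOf_coe]
        refine orderOf_eq_prime_pow (n := 1) ?_ ?_
        · rw [pow_one, pow_two, hsq 1 odd_one]; exact ht1
        · rw [show 2 ^ (1 + 1) = 2 + 2 from rfl, pow_add, pow_two, hsq 1 odd_one, htt])
    obtain ⟨w, ⟨i, hi, hw⟩, hwg⟩ := hg
    set x : ↥(S : Subgroup (Sq G)) := h * y ^ (1 : ℤ) with hxdef
    have hwg' : (w : Sq G) = g * x.1 * g⁻¹ := hwg
    have hww : (w * w : ↥(S : Subgroup (Sq G))).1 = g * t.1 * g⁻¹ := by
      calc (w * w : ↥(S : Subgroup (Sq G))).1 = w.1 * w.1 := rfl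
        _ = g * (x.1 * x.1) * g⁻¹ := by rw [hwg']; group
        _ = _ := by rw [← Subgroup.coe_mul, show x * x = t from hsq 1 odd_one]
    have hwy : w = y ^ i := by
      refine hw.resolve_right fun e => ht1 ?_
      rw [e, show h * y ^ i * (h * y ^ i) = h * y ^ i * h * y ^ i by group, hconj2 i hi, ← _root_.zpow_add,
        neg_add_cancel, zpow_zero] at hww
      exact Subtype.ext (conj_eq_one_iff.1 hww.symm)
    have hwt : (w * w : ↥(S : Subgroup (Sq G))) = t := by
      have hz1 : w * w ≠ 1 := fun e => ht1 (by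
        rw [e] at hww
        exact Subtype.ext (conj_eq_one_iff.1 hww.symm))
      have hz2 : w * w * (w * w) = 1 := Subtype.ext (by
        rw [Subgroup.coe_mul, hww]
        calc g * t.1 * g⁻¹ * (g * t.1 * g⁻¹) = g * (t * t : ↥(S : Subgroup (Sq G))).1 * g⁻¹ := by rw [Subgroup.coe_mul]; group
          _ = _ := by rw [htt]; simp)
      rw [hwy, ← _root_.zpow_add] at hz1 hz2 ⊢
      rw [← _root_.zpow_add] at hz2
      have hd : ((2 ^ n : ℕ) : ℤ) ∣ i + i + (i + i) := by
        rw [← hordy]; exact orderOf_dvd_iff_zpow_eq_one.2 hz2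
      rw [← hn2] at hd
      push_cast at hd
      obtain ⟨q, hq⟩ : ((2 ^ (n - 1) : ℕ) : ℤ) ∣ i + i := by
        obtain ⟨q, hq⟩ := hd
        exact ⟨q, by push_cast; linarith⟩
      rw [hq, _root_.zpow_mul, zpow_natCast, hpow] at hz1 ⊢
      rcases Int.even_or_odd q with ⟨r, rfl⟩ | ⟨r, rfl⟩
      · exact absurd (by rw [_root_.zpow_add, ← (Commute.refl t).mul_zpow, htt, _root_.one_zpow]) hz1
      · rw [_root_.zpow_add, _root_.zpow_mul, zpow_two, htt, _root_.one_zpow, one_mul, zpow_one]
    rw [hwt] at hww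
    have hgc : g ∈ Subgroup.centralizer ({pr G ⟨tP P, ht⟩} : Set (Sq G)) :=
      Subgroup.mem_centralizer_singleton_iff.2 (eq_mul_inv_iff_mul_eq.1 hww).symm
    obtain ⟨γ, hγ⟩ : ∃ γ : GL (Fin 2) F, γ = (ec ⟨g, hgc⟩ : GL (Fin 2) F) := ⟨_, rfl⟩
    have hγM : γ ∈ (rho C.two_ne G P).range := hγ ▸ (ec ⟨g, hgc⟩).2
    have hφw : φ w = γ * φ x * γ⁻¹ := by
      rw [hφ w, hφ x, hγ, ← Subgroup.coe_inv, ← Subgroup.coe_mul, ← Subgroup.coe_mul, ← map_inv,
        ← map_mul, ← map_mul]
      congr 2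
      exact Subtype.ext hwg'
    have hyns : ¬ Sc (φ y * φ y) := hnsc hn3
    set Y := γ⁻¹ * φ y * γ with hY
    have hYns : ¬ Sc (Y * Y) := fun hsc => hyns (by
      have : φ y * φ y = γ * (Y * Y) * γ⁻¹ := by rw [hY]; group
      rw [this, sc_iff_mk, map_mul, map_mul, sc_iff_mk.1 hsc, mul_one, map_inv, mul_inv_cancel])
    have hYM : Y ∈ (rho C.two_ne G P).range := mul_mem (mul_mem (inv_mem hγM) (hrange ⟨y, rfl⟩)) hγM
    have hYy : Y * φ y = φ y * Y := by
      by_contra e
      exact C.no_poly ht ⟨Y, hYM, φ y, hrange ⟨y, rfl⟩, hYns, hyns, e⟩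
    have hYx : Y * φ x = φ x * Y := by
      have hx' : φ x = γ⁻¹ * φ w * γ := by rw [hφw]; group
      have hc : φ y * φ w = φ w * φ y := by
        rw [hwy, ← map_mul, ← map_mul, (Commute.self_zpow y i).eq]
      rw [hY, hx', show γ⁻¹ * φ y * γ * (γ⁻¹ * φ w * γ) = γ⁻¹ * (φ y * φ w) * γ by group, hc]
      group
    have hxy : φ x * φ y = φ y * φ x := commutant_comm (fun hsc => hYns (by
      rw [sc_iff_mk, map_mul, sc_iff_mk.1 hsc, one_mul])) hYx hYy
    have hxy' : h * y * y = y * (h * y) := by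
      have := hinj (a₁ := x * y) (a₂ := y * x) ((map_mul φ x y).trans (hxy.trans (map_mul φ y x).symm))
      rwa [hxdef, zpow_one] at this
    have hhy : h * y * h⁻¹ = y := by
      rw [mul_inv_eq_iff_eq_mul]
      exact mul_right_cancel (b := y) (hxy'.trans (mul_assoc y h y).symm)
    rw [hhy] at hrel'
    have hyy : y ^ 2 = t := by
      rw [pow_two]
      nth_rewrite 2 [hrel']
      rw [mul_inv_cancel_left]
    have h4 : y ^ 4 = 1 := by rw [show 4 = 2 + 2 from rfl, pow_add, hyy, htt]
    have := orderOf_dvd_of_pow_eq_one h4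
    rw [hordy, show 4 = 2 ^ 2 from rfl, Nat.pow_dvd_pow_iff_le_right (by norm_num)] at this
    omega

/-- A simple transvection-free group is `PSL₂(q)` or `A₇`. -/
theorem psl_or_altSeven :
    (∃ (K : Type) (_ : Field K) (_ : Fintype K), Odd (Fintype.card K) ∧ 3 < Fintype.card K ∧
        Nonempty (Sq G ≃* Matrix.ProjectiveSpecialLinearGroup (Fin 2) K)) ∨
      Nonempty (Sq G ≃* alternatingGroup (Fin 7)) := by
  haveI := C.simple
  haveI : Group.IsPerfect (Sq G) := ⟨by
    rcases (inferInstance : (commutator (Sq G)).Normal).eq_bot_or_eq_top with h | h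
    · exact absurd ⟨⟨fun a b => by
        have hm : ⁅a, b⁆ ∈ commutator (Sq G) :=
          Subgroup.commutator_mem_commutator (Subgroup.mem_top a) (Subgroup.mem_top b)
        rw [h, Subgroup.mem_bot, commutatorElement_eq_one_iff_mul_comm] at hm
        exact hm⟩⟩ C.nonab
    · exact h⟩
  obtain ⟨S⟩ : Nonempty (Sylow 2 (Sq G)) := inferInstance
  obtain ⟨n, hn, hS⟩ := C.sylow_dihedral S
  have hcore : Cfsg.oddCore (Sq G) = ⊥ := C.normal_odd (Cores.pPrimeCore_normal 2 (Sq G))
    (Nat.coprime_two_right.1 (Cores.coprime_card_pPrimeCore (G := Sq G) 2))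
  let q : Sq G ⧸ Cfsg.oddCore (Sq G) ≃* Sq G :=
    (QuotientGroup.quotientMulEquivOfEq hcore).trans QuotientGroup.quotientBot
  rcases S0483.result S n hn hS with ⟨K, iF, iT, h1, h2, ⟨e⟩⟩ | ⟨e⟩
  · exact Or.inl ⟨K, iF, iT, h1, h2, ⟨q.symm.trans e⟩⟩
  · exact Or.inr (e.map q.symm.trans)

end Ctx

end Cfsg.Agent.Mitchell
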