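import Cfsg.Agent.Lib.Mitchell.Free.Big

/-!
# The commuting graph of a class of involutions

* `Ctx.conj_mul` : in a polyhedral centraliser a second involution `u` is conjugate to `t * u`
* `Ctx.no_scalar_poly` : a polyhedral involution has no homology of order at least three on its axis
* `Ctx.scalars_pm` : the scalars induced on an axis are `±1`
* `Ctx.no_big` : there are no homologies of order at least three
-/

set_option autoImplicit false
set_option linter.unusedSectionVars false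

namespace Cfsg.Agent.Mitchell

open Cfsg.Agent.SL3Max Cfsg.Agent.Transvect Matrix

universe u

variable {F : Type u} [Field F] [Finite F] {G : Subgroup (GL (Fin 3) F)}

lemma tP_conj (k P : GL (Fin 3) F) : k * tP P * k⁻¹ = tP (k * P) := by
  simp only [tP, _root_.mul_inv_rev]; group

lemma axisP_conj (k P : GL (Fin 3) F) : axisP (k * P) = axisP P ∘ₗ (app k⁻¹).toLinearMap := by
  refine LinearMap.ext fun v => ?_
  show phi0 (app (k * P)⁻¹ v) = phi0 (app P⁻¹ (app k⁻¹ v))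
  rw [_root_.mul_inv_rev, app_mul]

namespace Ctx

variable (C : Ctx G)
include C

lemma not_dvd (P : GL (Fin 3) F) : ¬ ringChar F ∣ Nat.card (rho C.two_ne G P).range := by
  haveI : Fact (ringChar F).Prime := ⟨CharP.char_is_prime F (ringChar F)⟩
  exact not_dvd_card_range C.two_ne C.efree (ringChar F)

/-- An involution other than `t` in `C(t)` acts non-trivially on the axis. -/
lemma rho_not_sc {P Q : GL (Fin 3) F} (ht : tP P ∈ G) (hu : tP Q ∈ DP G P) (hne : tP Q ≠ tP P) :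
    ¬ Sc (rho C.two_ne G P ⟨tP Q, hu⟩) ∧
      rho C.two_ne G P ⟨tP Q, hu⟩ * rho C.two_ne G P ⟨tP Q, hu⟩ = 1 := by
  set r := rho C.two_ne G P ⟨tP Q, hu⟩ with hr
  have h2 : r * r = 1 := by
    rw [hr, ← map_mul, show (⟨tP Q, hu⟩ : DP G P) * ⟨tP Q, hu⟩ = 1 from Subtype.ext (tP_mul_self Q), map_one]
  refine ⟨?_, h2⟩
  rintro ⟨c, hc⟩
  have hc2 : c ^ 2 = 1 := by
    have := congrArg (fun m : GL (Fin 2) F => (m : Matrix (Fin 2) (Fin 2) F) 0 0) h2
    simpa [hc, pow_two] using this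
  rcases sq_eq_one_iff.1 hc2 with rfl | rfl
  · exact tP_not_mem_scalars C.two_ne (P := Q) (mem_scalars_of_rho_one C.two_ne
      (g := (⟨tP Q, hu⟩ : DP G P)) (Units.ext (by rw [← hr, hc, one_smul]; rfl)))
  · have hr1 : r = -1 := Units.ext (by rw [hc, Units.val_neg, Units.val_one, neg_smul, one_smul])
    have hs := mem_scalars_of_rho_one C.two_ne
      (g := (⟨tP P, tP_mem_DP ht⟩ : DP G P) * (⟨tP Q, hu⟩ : DP G P)⁻¹)
      (by rw [map_mul, map_inv, rho_tP C.two_ne ht, ← hr, hr1, mul_inv_cancel])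
    exact hne (C.inv_eq (tP_mul_self Q) (tP_mem_sl Q) hs).symm

/-- In a polyhedral centraliser an involution is conjugate to its product with the central one. -/
lemma conj_mul {P Q : GL (Fin 3) F} (ht : tP P ∈ G) (hP : Poly (rho C.two_ne G P).range)
    (hu : tP Q ∈ DP G P) (hne : tP Q ≠ tP P) :
    ∃ g ∈ DP G P, g * tP Q * g⁻¹ = tP P * tP Q := by
  haveI : Fact (ringChar F).Prime := ⟨CharP.char_is_prime F (ringChar F)⟩
  obtain ⟨hns, h2⟩ := C.rho_not_sc ht hu hne
  obtain ⟨r, ⟨g, rfl⟩, hg⟩ := exists_neg (ringChar F) C.two_ne (C.not_dvd P) hP ⟨_, rfl⟩ hns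
    ⟨1, by rw [h2]; simp⟩
  refine ⟨g, g.2, ?_⟩
  have hs := mem_scalars_of_rho_one C.two_ne
    (g := g * (⟨tP Q, hu⟩ : DP G P) * g⁻¹ * ((⟨tP P, tP_mem_DP ht⟩ : DP G P) * ⟨tP Q, hu⟩)⁻¹)
    (by rw [map_mul, map_mul, map_mul, map_inv, map_inv, hg, map_mul, rho_tP C.two_ne ht, neg_one_mul, mul_inv_cancel])
  have hcom : tP Q * tP P = tP P * tP Q := ((mem_DP G P).1 hu).2
  rw [tP_conj] at *
  refine C.inv_eq ?_ (mul_mem (tP_mem_sl P) (tP_mem_sl Q)) ?_
  · rw [mul_assoc, ← mul_assoc (tP Q), hcom, mul_assoc (tP P), tP_mul_self, mul_one, tP_mul_self]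
  · simpa [tP_conj] using hs

/-- A polyhedral involution has no homology of order at least three on its axis. -/
theorem no_scalar_poly {P : GL (Fin 3) F} (ht : tP P ∈ G) (hP : Poly (rho C.two_ne G P).range)
    {g : DP G P} {l : F} (hg : (rho C.two_ne G P g : Matrix (Fin 2) (Fin 2) F) = l • 1)
    (hl : l ^ 2 ≠ 1) : False := by
  haveI : Fact (ringChar F).Prime := ⟨CharP.char_is_prime F (ringChar F)⟩
  set a := chi C.two_ne G P g with hadef
  set b := l * a with hbdef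
  have ha : a ≠ 0 := chiHom_ne C.two_ne (toStd G P g)
  have hl0 : l ≠ 0 := by
    rintro rfl
    exact (rho C.two_ne G P g).ne_zero (by rw [hg, zero_smul])
  have hb : b ≠ 0 := mul_ne_zero hl0 ha
  have hab : a ^ 2 ≠ b ^ 2 := fun h => hl (mul_right_cancel₀ (pow_ne_zero 2 ha) (by
    rw [one_mul, ← mul_pow, ← hbdef, h]))
  have hd : a - b ≠ 0 := fun h => hab (by rw [sub_eq_zero.1 h])
  set κ := (a - b) / 2 with hκ
  have hκ0 : κ ≠ 0 := div_ne_zero hd C.two_ne
  set c := app P (Pi.single 2 1) with hcdef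
  have hX : BH (g : GL (Fin 3) F) b c (κ • axisP P) := fun v => by
    rw [BH.of_rho_scalar C.two_ne hg v]
    congr 1
    show ((a - b) • LinearMap.proj 2 : D3 F) (app P⁻¹ v) • _ = (κ * phi0 (app P⁻¹ v)) • _
    simp only [LinearMap.smul_apply, LinearMap.proj_apply, phi0, smul_eq_mul]
    rw [hκ, ← mul_assoc, div_mul_cancel₀ _ C.two_ne]
  let K : Set (GL (Fin 3) F) := {u | ∃ k ∈ G, u = tP (k * P)}
  have hKG : ∀ u ∈ K, u ∈ G := fun u ⟨k, hk, hu⟩ => by
    rw [hu, ← tP_conj]; exact mul_mem (mul_mem hk ht) (inv_mem hk)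
  have hKconj : ∀ u ∈ K, ∀ k ∈ G, k * u * k⁻¹ ∈ K := fun u ⟨j, hj, hu⟩ k hk =>
    ⟨k * j, mul_mem hk hj, by rw [hu, tP_conj, mul_assoc]⟩
  have htK : tP P ∈ K := ⟨1, one_mem _, by rw [one_mul]⟩
  have hmul : ∀ u ∈ K, u ≠ tP P → tP P * u = u * tP P → tP P * u ∈ K := by
    rintro u ⟨k, hk, rfl⟩ hne hcom
    obtain ⟨h, hh, he⟩ := C.conj_mul ht hP (Q := k * P)
      ((mem_DP G P).2 ⟨hKG _ ⟨k, hk, rfl⟩, hcom.symm⟩) hne
    rw [← he]
    exact hKconj _ ⟨k, hk, rfl⟩ h ((mem_DP G P).1 hh).1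
  -- two vertices have exactly one common neighbour
  have hbase : ∀ u ∈ K, u ≠ tP P → ∃! w, (w ∈ K ∧ w ≠ tP P ∧ tP P * w = w * tP P) ∧
      (w ∈ K ∧ w ≠ u ∧ u * w = w * u) := by
    rintro u ⟨k, hk, rfl⟩ hne
    have huG := hKG _ ⟨k, hk, rfl⟩
    have hY : BH (k * (g : GL (Fin 3) F) * k⁻¹) b (app (k * P) (Pi.single 2 1)) (κ • axisP (k * P)) := fun v => by
      rw [hX.conj k v, app_mul, axisP_conj, hcdef]
      rfl
    obtain ⟨hli, hax⟩ := invol_general C.two_ne C.efree ht huG (Ne.symm hne)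
    obtain ⟨w, hw⟩ : ∃ w, (w ∈ K ∧ w ≠ tP P ∧ tP P * w = w * tP P) ∧
        (w ∈ K ∧ w ≠ tP (k * P) ∧ tP (k * P) * w = w * tP (k * P)) := by
      by_cases hcom : tP P * tP (k * P) = tP (k * P) * tP P
      · refine ⟨tP P * tP (k * P), ⟨hmul _ ⟨k, hk, rfl⟩ hne hcom, ?_, ?_⟩, ⟨hmul _ ⟨k, hk, rfl⟩ hne hcom, ?_, ?_⟩⟩
        · exact fun h => tP_not_mem_scalars C.two_ne (P := k * P)
            (by rw [mul_eq_left.1 h]; exact one_mem _)
        · rw [mul_assoc, hcom]
        · exact fun h => tP_not_mem_scalars C.two_ne (P := P) (by rw [mul_eq_right.1 h]; exact one_mem _)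
        · rw [← mul_assoc, ← hcom, mul_assoc]
      · have hxy : (g : GL (Fin 3) F) * (k * (g : GL (Fin 3) F) * k⁻¹) ≠
            k * (g : GL (Fin 3) F) * k⁻¹ * g := fun h => hcom ((comm_criterion (bh_tP P) (bh_tP (k * P))).2
          fun v => by
            have := (comm_criterion hX hY).1 h v
            simp only [LinearMap.smul_apply, smul_eq_mul] at this
            have h' : (κ * κ) • ((axisP (k * P) v * axisP P (app (k * P) (Pi.single 2 1))) • c) =
                (κ * κ) • ((axisP P v * axisP (k * P) c) • app (k * P) (Pi.single 2 1)) := by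
              rw [smul_smul, smul_smul]; convert this using 2 <;> ring
            exact smul_right_injective _ (mul_ne_zero hκ0 hκ0) h')
        have hxG := ((mem_DP G P).1 g.2).1
        obtain ⟨R, hR, h0, h1, hp, hp', hPoly, hxD, -⟩ := C.pair_frame hxG
          (mul_mem (mul_mem hk hxG) (inv_mem hk)) hX hY (a := a)
          (by rw [LinearMap.smul_apply, axisP_centre, smul_eq_mul, hκ, div_mul_cancel₀ _ C.two_ne])
          (by rw [LinearMap.smul_apply, axisP_centre, smul_eq_mul, hκ, div_mul_cancel₀ _ C.two_ne])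
          ha hb hab hxy
        rw [LinearMap.smul_apply, smul_eq_mul, mul_eq_zero, or_iff_right hκ0] at hp hp'
        have htR : tP P ∈ DP G R := mem_DP_frame ht (bh_tP P) hp
          (by rw [← hcdef, ← h0]; exact axisP_col R (by decide))
        have huR : tP (k * P) ∈ DP G R := mem_DP_frame huG (bh_tP (k * P)) hp'
          (by show axisP R _ = 0; rw [← h1]; exact axisP_col R (by decide))
        have hwt : tP R ≠ tP P := fun h => hcom (by
          have := ((mem_DP G R).1 huR).2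
          rw [h] at this
          exact this.symm)
        have hwu : tP R ≠ tP (k * P) := fun h => hcom (by
          have := ((mem_DP G R).1 htR).2
          rw [h] at this
          exact this)
        have hct : tP P * tP R = tP R * tP P := ((mem_DP G R).1 htR).2
        obtain ⟨h, hh, he⟩ := C.conj_mul hR hPoly htR (Ne.symm hwt)
        have hK1 : tP R * tP P ∈ K := he ▸ hKconj _ htK h ((mem_DP G R).1 hh).1
        have hne1 : tP R * tP P ≠ tP P := fun h =>
          tP_not_mem_scalars C.two_ne (P := R) (by rw [mul_eq_right.1 h]; exact one_mem _)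
        have hwK : tP R ∈ K := by
          have := hmul _ hK1 hne1 (by rw [← mul_assoc, hct, mul_assoc])
          rwa [← mul_assoc, hct, mul_assoc, tP_mul_self, mul_one] at this
        exact ⟨tP R, ⟨hwK, hwt, hct⟩, hwK, hwu, ((mem_DP G R).1 huR).2⟩
    refine ⟨w, hw, ?_⟩
    rintro w' ⟨⟨⟨j', hj', rfl⟩, hw't, hc't⟩, -, hw'u, hc'u⟩
    obtain ⟨⟨⟨j, hj, rfl⟩, hwt, hct⟩, -, hwu, hcu⟩ := hw
    by_contra hne'
    have hd1 : ∀ {A B : GL (Fin 3) F}, tP A ∈ G → tP B ∈ G → tP A ≠ tP B → tP A * tP B = tP B * tP A →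
        axisP A (app B (Pi.single 2 1)) = 0 := fun hA hB hAB hc =>
      (zero_of_comm (bh_tP _) (bh_tP _) (invol_general C.two_ne C.efree hA hB hAB).1
        (axisP_ne C.two_ne _) (axisP_ne C.two_ne _) hc).1
    have hwG := hKG _ ⟨j, hj, rfl⟩
    have hw'G := hKG _ ⟨j', hj', rfl⟩
    have hl' := (invol_general C.two_ne C.efree hwG hw'G (Ne.symm hne')).1
    obtain ⟨μ, hμ⟩ := line_unique (axisP_ne C.two_ne P) (centre_ne (j * P))
      (d := app (j' * P) (Pi.single 2 1))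
      (fun h => by
        obtain ⟨μ, hμ⟩ := Submodule.mem_span_singleton.1 h
        exact (LinearIndependent.pair_iff' (centre_ne (j * P))).1 hl' μ hμ)
      (hd1 ht hwG (Ne.symm hwt) hct) (hd1 ht hw'G (Ne.symm hw't) hc't)
      (hd1 huG hwG (Ne.symm hwu) hcu) (hd1 huG hw'G (Ne.symm hw'u) hc'u)
    exact hax μ hμ.symm
  -- the graph
  let R : K → K → Prop := fun u v => u ≠ v ∧ (u : GL (Fin 3) F) * v = v * u
  let cj : ∀ k ∈ G, K ≃ K := fun k hk =>
    { toFun := fun u => ⟨k * u * k⁻¹, hKconj _ u.2 k hk⟩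
      invFun := fun u => ⟨k⁻¹ * u * k, by simpa using hKconj _ u.2 k⁻¹ (inv_mem hk)⟩
      left_inv := fun u => Subtype.ext (by group)
      right_inv := fun u => Subtype.ext (by group) }
  have hRcj : ∀ k (hk : k ∈ G) u v, R (cj k hk u) (cj k hk v) ↔ R u v := fun k hk u v => by
    refine and_congr (cj k hk).injective.ne_iff ?_
    show k * (u : GL (Fin 3) F) * k⁻¹ * (k * v * k⁻¹) = k * v * k⁻¹ * (k * u * k⁻¹) ↔ _
    rw [show k * (u : GL (Fin 3) F) * k⁻¹ * (k * v * k⁻¹) = k * (u * v) * k⁻¹ by group,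
      show k * (v : GL (Fin 3) F) * k⁻¹ * (k * u * k⁻¹) = k * (v * u) * k⁻¹ by group, mul_left_inj,
      mul_right_inj]
  have hto : ∀ u : K, ∃ k, ∃ hk : k ∈ G, cj k hk ⟨tP P, htK⟩ = u := by
    rintro ⟨_, k, hk, rfl⟩
    exact ⟨k, hk, Subtype.ext (tP_conj k P)⟩
  have hRsymm : ∀ u v, R u v → R v u := fun u v h => ⟨Ne.symm h.1, h.2.symm⟩
  have hd3 : 3 ≤ Nat.card {v // R ⟨tP P, htK⟩ v} := by
    obtain ⟨⟨k, hkG⟩, hk1, hk2⟩ := C.exists_commuting_conj ht
    change k * tP P * k⁻¹ ≠ tP P at hk1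
    change k * tP P * k⁻¹ ∈ DP G P at hk2
    rw [tP_conj] at hk1 hk2
    obtain ⟨hns, hsq⟩ := C.rho_not_sc ht hk2 hk1
    obtain ⟨r, ⟨j, rfl⟩, hj⟩ := exists_move (ringChar F) C.two_ne (C.not_dvd P) hP ⟨_, rfl⟩ hns
      ⟨1, by rw [hsq]; simp⟩
    have hcom := ((mem_DP G P).1 hk2).2
    have hcj := ((mem_DP G P).1 j.2).2
    let u₁ : K := ⟨tP (k * P), ⟨k, hkG, rfl⟩⟩
    let u₂ : K := ⟨tP P * tP (k * P), hmul _ u₁.2 hk1 hcom.symm⟩
    let u₃ : K := ⟨(j : GL (Fin 3) F) * tP (k * P) * (j : GL (Fin 3) F)⁻¹, hKconj _ u₁.2 j ((mem_DP G P).1 j.2).1⟩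
    have h13 : u₁ ≠ u₃ := fun h => hj (by
      rw [← map_inv, ← map_mul, ← map_mul]
      congr 2
      exact Subtype.ext (congrArg Subtype.val h).symm)
    have h23 : u₂ ≠ u₃ := fun h => hj (by
      rw [← map_inv, ← map_mul, ← map_mul,
        show j * ⟨tP (k * P), hk2⟩ * j⁻¹ = (⟨tP P, tP_mem_DP ht⟩ : DP G P) * ⟨tP (k * P), hk2⟩ from
          Subtype.ext (congrArg Subtype.val h).symm, map_mul, map_mul, rho_tP C.two_ne ht]
      rw [show ProjGenLinGroup.mk (-1 : GL (Fin 2) F) = 1 from sc_iff_mk.1 ⟨-1, by simp⟩, one_mul])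
    have h12 : u₁ ≠ u₂ := fun h => tP_not_mem_scalars C.two_ne (P := P)
      (by rw [mul_eq_right.1 (congrArg Subtype.val h).symm]; exact one_mem _)
    have m1 : R ⟨tP P, htK⟩ u₁ := ⟨fun h => hk1 (congrArg Subtype.val h).symm, hcom.symm⟩
    have m2 : R ⟨tP P, htK⟩ u₂ := ⟨fun h => tP_not_mem_scalars C.two_ne (P := k * P)
        (by rw [mul_eq_left.1 (congrArg Subtype.val h).symm]; exact one_mem _),
      show tP P * (tP P * tP (k * P)) = tP P * tP (k * P) * tP P by rw [mul_assoc, hcom]⟩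
    have m3 : R ⟨tP P, htK⟩ u₃ := ⟨fun h => hk1 (by
        have h' := congrArg Subtype.val h
        exact mul_left_cancel (a := (j : GL (Fin 3) F)) (mul_right_cancel (b := (j : GL (Fin 3) F)⁻¹)
          (h'.symm.trans (by rw [hcj, mul_inv_cancel_right])))),
      show tP P * _ = _ * tP P by
        have hji : (j : GL (Fin 3) F)⁻¹ * tP P = tP P * (j : GL (Fin 3) F)⁻¹ := by
          rw [inv_mul_eq_iff_eq_mul, ← mul_assoc, hcj, mul_inv_cancel_right]
        calc tP P * ((j : GL (Fin 3) F) * tP (k * P) * (j : GL (Fin 3) F)⁻¹)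
            = (j : GL (Fin 3) F) * (tP P * tP (k * P)) * (j : GL (Fin 3) F)⁻¹ := by
              rw [← mul_assoc, ← mul_assoc, ← hcj, mul_assoc (j : GL (Fin 3) F) (tP P)]
          _ = _ := by
              show _ = (j : GL (Fin 3) F) * tP (k * P) * (j : GL (Fin 3) F)⁻¹ * tP P
              rw [← hcom]; simp only [mul_assoc]; rw [hji]⟩
    let f : Fin 3 → {v // R ⟨tP P, htK⟩ v} := ![⟨u₁, m1⟩, ⟨u₂, m2⟩, ⟨u₃, m3⟩]
    have hf : Function.Injective f := by
      intro i i' h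
      have h' := congrArg Subtype.val h
      fin_cases i <;> fin_cases i' <;> first
        | rfl
        | exact absurd h' h12
        | exact absurd h' h13
        | exact absurd h' h23
        | exact absurd h'.symm h12
        | exact absurd h'.symm h13
        | exact absurd h'.symm h23
    simpa using Nat.card_le_card_of_injective f hf
  haveI : Nonempty K := ⟨⟨_, htK⟩⟩
  refine friendship_false R hRsymm (fun u h => h.1 rfl) (fun u v huv => ?_) _ hd3 (fun u => ?_)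
  · obtain ⟨k, hk, rfl⟩ := hto u
    obtain ⟨v', rfl⟩ := (cj k hk).surjective v
    have hne : v' ≠ ⟨tP P, htK⟩ := fun h => huv (by rw [h])
    obtain ⟨w, ⟨⟨hwK, hw1, hw2⟩, -, hw3, hw4⟩, huniq⟩ :=
      hbase v' v'.2 (fun h => hne (Subtype.ext h))
    refine ⟨cj k hk ⟨w, hwK⟩, ⟨(hRcj k hk _ _).2 ⟨fun h => hw1 (congrArg Subtype.val h).symm, hw2⟩,
      (hRcj k hk _ _).2 ⟨fun h => hw3 (congrArg Subtype.val h).symm, hw4⟩⟩, ?_⟩
    intro z ⟨hz1, hz2⟩
    obtain ⟨z', rfl⟩ := (cj k hk).surjective z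
    obtain ⟨hz1, hz1'⟩ := (hRcj k hk _ _).1 hz1
    obtain ⟨hz2, hz2'⟩ := (hRcj k hk _ _).1 hz2
    exact congrArg _ (Subtype.ext (huniq z' ⟨⟨z'.2, fun h => hz1 (Subtype.ext h).symm, hz1'⟩,
      z'.2, fun h => hz2 (Subtype.ext h).symm, hz2'⟩))
  · obtain ⟨k, hk, rfl⟩ := hto u
    exact Nat.card_congr ((Equiv.subtypeEquiv (cj k hk) fun v => (hRcj k hk _ v).symm)).symm

/-- There are no homologies of order at least three. -/
theorem no_big {x : GL (Fin 3) F} (hx : x ∈ G) {a b : F} {c : V3 F} {φ : D3 F} (hX : BH x b c φ)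
    (hφc : φ c = a - b) (ha : a ≠ 0) (hb : b ≠ 0) (hab : a ^ 2 ≠ b ^ 2) : False := by
  haveI : Fact (ringChar F).Prime := ⟨CharP.char_is_prime F (ringChar F)⟩
  haveI := C.simple
  obtain ⟨k, hk, hne⟩ : ∃ k ∈ G, x * (k * x * k⁻¹) ≠ k * x * k⁻¹ * x := by
    by_contra hall
    push Not at hall
    let N : Subgroup (Sq G) := Subgroup.normalClosure {pr G ⟨x, hx⟩}
    have hcomm : ∀ u ∈ Group.conjugatesOfSet {pr G ⟨x, hx⟩}, ∀ v ∈ Group.conjugatesOfSet {pr G ⟨x, hx⟩},
        u * v = v * u := by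
      intro u hu v hv
      rw [Group.mem_conjugatesOfSet_iff] at hu hv
      obtain ⟨_, rfl, hu⟩ := hu
      obtain ⟨_, rfl, hv⟩ := hv
      obtain ⟨gu, rfl⟩ := isConj_iff.1 hu
      obtain ⟨gv, rfl⟩ := isConj_iff.1 hv
      obtain ⟨g, rfl⟩ := QuotientGroup.mk'_surjective _ gu
      obtain ⟨h, rfl⟩ := QuotientGroup.mk'_surjective _ gv
      simp only [← map_inv, ← map_mul]
      congr 1
      refine Subtype.ext ?_
      show (g : GL (Fin 3) F) * x * (g : GL (Fin 3) F)⁻¹ * ((h : GL (Fin 3) F) * x * (h : GL (Fin 3) F)⁻¹) =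
        (h : GL (Fin 3) F) * x * (h : GL (Fin 3) F)⁻¹ * ((g : GL (Fin 3) F) * x * (g : GL (Fin 3) F)⁻¹)
      calc _ = (g : GL (Fin 3) F) * (x * ((g : GL (Fin 3) F)⁻¹ * h * x * ((g : GL (Fin 3) F)⁻¹ * h)⁻¹)) * (g : GL (Fin 3) F)⁻¹ := by group
        _ = _ := by rw [hall _ (mul_mem (inv_mem g.2) h.2)]; group
    have habel : IsMulCommutative N := Subgroup.isMulCommutative_closure hcomm
    have hbt : N = ⊥ ∨ N = ⊤ := (Subgroup.normalClosure_normal : N.Normal).eq_bot_or_eq_top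
    rcases hbt with h | h
    · have hmem : pr G ⟨x, hx⟩ ∈ N := Subgroup.subset_normalClosure rfl
      rw [h, Subgroup.mem_bot, pr_eq_one] at hmem
      obtain ⟨s, -, -, hs⟩ := app_of_mem_scalars hmem
      have hc0 : c ≠ 0 := fun e => hab (by
        rw [e, map_zero] at hφc; rw [sub_eq_zero.1 hφc.symm])
      obtain ⟨w, hw, hw0⟩ := Submodule.exists_mem_ne_zero_of_ne_bot
        (LinearMap.ker_ne_bot_of_finrank_lt (f := φ) (by simp))
      have e1 := smul_left_injective F hw0 ((hX.axis hw).symm.trans (hs w))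
      have e2 := smul_left_injective F hc0 (hX.centre.symm.trans (hs c))
      simp only [hφc, add_sub_cancel] at e2
      exact hab (by rw [e1, e2])
    · exact C.nonab ⟨⟨fun u v => congrArg Subtype.val
        (habel.is_comm.comm ⟨u, h ▸ Subgroup.mem_top u⟩ ⟨v, h ▸ Subgroup.mem_top v⟩)⟩⟩
  obtain ⟨R, hR, h0, h1, hp, -, hPoly, hxD, ex⟩ := C.pair_frame hx
    (mul_mem (mul_mem hk hx) (inv_mem hk)) hX (hX.conj k) hφc
    (by
      show φ (app k⁻¹ (app k c)) = a - b
      rw [app_inv_app, hφc]) ha hb hab hne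
  have hs : ∀ z ∈ (rho C.two_ne G R).range, Sc z →
      (z : Matrix (Fin 2) (Fin 2) F) = 1 ∨ (z : Matrix (Fin 2) (Fin 2) F) = -1 := by
    rintro _ ⟨g, rfl⟩ ⟨l, hl⟩
    by_cases h : l ^ 2 = 1
    · rcases sq_eq_one_iff.1 h with rfl | rfl
      · left; rw [hl, one_smul]
      · right; rw [hl, neg_smul, one_smul]
    · exact (C.no_scalar_poly hR hPoly hl h).elim
  obtain ⟨j, hj1, hj2⟩ := C.exists_commuting_conj hR
  rw [tP_conj] at hj1 hj2
  obtain ⟨hns, hsq⟩ := C.rho_not_sc hR hj2 hj1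
  obtain ⟨e⟩ := perm_four_of_involution (ringChar F) C.two_ne (C.not_dvd R) hPoly hs ⟨_, rfl⟩ hns hsq
  have := det_sq hs e (x := rho C.two_ne G R ⟨x, hxD⟩) ⟨_, rfl⟩
  rw [ex, Matrix.det_fin_two_of] at this
  field_simp at this
  exact hab (by linear_combination this)

/-- The scalars induced on an axis are `±1`. -/
theorem scalars_pm {P : GL (Fin 3) F} {z : GL (Fin 2) F} (hz : z ∈ (rho C.two_ne G P).range)
    (hs : Sc z) : (z : Matrix (Fin 2) (Fin 2) F) = 1 ∨ (z : Matrix (Fin 2) (Fin 2) F) = -1 := by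
  obtain ⟨g, rfl⟩ := hz
  obtain ⟨l, hl⟩ := hs
  by_cases h : l ^ 2 = 1
  · rcases sq_eq_one_iff.1 h with rfl | rfl
    · left; rw [hl, one_smul]
    · right; rw [hl, neg_smul, one_smul]
  · exfalso
    have hl0 : l ≠ 0 := by
      rintro rfl
      exact (rho C.two_ne G P g).ne_zero (by rw [hl, zero_smul])
    have ha : chi C.two_ne G P g ≠ 0 := chiHom_ne C.two_ne (toStd G P g)
    refine C.no_big ((mem_DP G P).1 g.2).1 (BH.of_rho_scalar C.two_ne hl) (a := chi C.two_ne G P g) ?_ ha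
      (mul_ne_zero hl0 ha) fun e => h ?_
    · show ((chi C.two_ne G P g - l * chi C.two_ne G P g) • LinearMap.proj 2 : D3 F) (app P⁻¹ (app P (Pi.single 2 1))) = _
      rw [app_inv_app]; simp
    · exact mul_right_cancel₀ (pow_ne_zero 2 ha) (by rw [one_mul, ← mul_pow, e])

end Ctx

end Cfsg.Agent.Mitchell
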